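import Groth.Agent.S1464
import Groth.Agent.CycA.ProdDim
import Groth.Agent.Flat2D.FibreDimSch
import Mathlib.AlgebraicGeometry.Morphisms.FiniteType
import Mathlib.AlgebraicGeometry.Pullbacks

/-!
# Dimension of base changes and products over a field

* `topologicalKrullDim_bc_eq`, `topologicalKrullDim_pullback_eq_add`.
-/

set_option autoImplicit false

universe u

open TensorProduct CategoryTheory CategoryTheory.Limits AlgebraicGeometry

namespace K106.Dim

variable {k : Type u} [Field k] {X : Scheme.{u}} (f : X ⟶ Spec (CommRingCat.of k))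

theorem topologicalKrullDim_bc_eq [LocallyOfFiniteType f] (K : Type u) [Field K] [Algebra k K] :
    topologicalKrullDim ↥(pullback f (Spec.map (CommRingCat.ofHom (algebraMap k K)))) =
      topologicalKrullDim ↥X := by
  rw [Groth.Agent.Flat2D.FibreDimSch.topologicalKrullDim_eq_iSup_openCover X X.affineCover,
    Groth.Agent.Flat2D.FibreDimSch.topologicalKrullDim_eq_iSup_openCover _
      (Scheme.Pullback.openCoverOfLeft X.affineCover f
        (Spec.map (CommRingCat.ofHom (algebraMap k K))))]
  refine iSup_congr fun i => ?_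
  exact Groth.Agent.S1464.inv_scheme (Field.toIsField k) (Field.toIsField K)
    (X.affineCover.f i ≫ f) (pullback.snd _ _) (pullback.fst _ _) _
    (IsPullback.of_hasPullback (X.affineCover.f i ≫ f)
      (Spec.map (CommRingCat.ofHom (algebraMap k K))))

/-- finite bounds below a supremum are attained -/
theorem natCast_le_iSup_iff {ι : Type*} (a : ι → WithBot ℕ∞) (n : ℕ) :
    (n : WithBot ℕ∞) ≤ ⨆ i, a i ↔ ∃ i, (n : WithBot ℕ∞) ≤ a i := by
  refine ⟨fun h => ?_, fun ⟨i, hi⟩ => hi.trans (le_iSup a i)⟩
  by_contra! hcon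
  rcases n with _ | n
  · have : ⨆ i, a i ≤ ⊥ := iSup_le fun i => by
      have h1 := hcon i
      cases h2 : a i using WithBot.recBotCoe with
      | bot => exact le_rfl
      | coe x =>
        rw [h2] at h1
        exact absurd h1 (not_lt.2 (by exact_mod_cast (bot_le : (⊥ : ℕ∞) ≤ x)))
    exact absurd (h.trans this) (by simp)
  · have : ⨆ i, a i ≤ (n : WithBot ℕ∞) := iSup_le fun i => by
      have h1 := hcon i
      cases h2 : a i using WithBot.recBotCoe with
      | bot => exact bot_le
      | coe x =>
        rw [h2] at h1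
        have h3 : x < ((n + 1 : ℕ) : ℕ∞) := by exact_mod_cast h1
        have h4 : x ≤ (n : ℕ∞) := by
          rw [Nat.cast_add, Nat.cast_one] at h3
          exact Order.le_of_lt_add_one h3
        exact_mod_cast h4
    have h5 := h.trans this
    have h6 : n + 1 ≤ n := by exact_mod_cast h5
    omega

theorem le_of_forall_natCast_le {a b : WithBot ℕ∞} (h : ∀ n : ℕ, (n : WithBot ℕ∞) ≤ a → (n : WithBot ℕ∞) ≤ b) :
    a ≤ b := by
  cases a using WithBot.recBotCoe with
  | bot => exact bot_le
  | coe x =>
    have h0 : (0 : WithBot ℕ∞) ≤ b := by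
      have := h 0 (by exact_mod_cast (bot_le : (⊥ : ℕ∞) ≤ x))
      exact_mod_cast this
    cases b using WithBot.recBotCoe with
    | bot => exact absurd h0 (by simp)
    | coe y =>
      rw [WithBot.coe_le_coe]
      refine ENat.forall_natCast_le_iff_le.mp fun n hn => ?_
      have := h n (by exact_mod_cast hn)
      exact_mod_cast this

theorem exists_add_of_natCast_le {x y : WithBot ℕ∞} {n : ℕ} (h : (n : WithBot ℕ∞) ≤ x + y) :
    ∃ n₁ n₂ : ℕ, n₁ + n₂ = n ∧ (n₁ : WithBot ℕ∞) ≤ x ∧ (n₂ : WithBot ℕ∞) ≤ y := by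
  cases x using WithBot.recBotCoe with
  | bot => rw [WithBot.bot_add] at h; exact absurd h (by simp)
  | coe x =>
    cases y using WithBot.recBotCoe with
    | bot => rw [WithBot.add_bot] at h; exact absurd h (by simp)
    | coe y =>
      rw [← WithBot.coe_add] at h
      have h' : (n : ℕ∞) ≤ x + y := by exact_mod_cast h
      cases x using WithTop.recTopCoe with
      | top =>
        refine ⟨n, 0, rfl, ?_, ?_⟩
        · exact WithBot.coe_le_coe.2 (le_top : (n : ℕ∞) ≤ ⊤)
        · exact WithBot.coe_le_coe.2 (bot_le : ((0 : ℕ) : ℕ∞) ≤ y)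
      | coe m =>
        refine ⟨min n m, n - min n m, by omega, ?_, ?_⟩
        · have : ((min n m : ℕ) : ℕ∞) ≤ ((m : ℕ) : ℕ∞) := by exact_mod_cast min_le_right n m
          exact WithBot.coe_le_coe.2 this
        · have h2 : ((n - min n m : ℕ) : ℕ∞) ≤ y := by
            cases y using WithTop.recTopCoe with
            | top => exact le_top
            | coe l =>
              have h3 : (n : ℕ∞) ≤ ((m + l : ℕ) : ℕ∞) := by
                rw [Nat.cast_add]; exact h'
              have h4 : n ≤ m + l := by exact_mod_cast h3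
              have h5 : n - min n m ≤ l := by omega
              have : ((n - min n m : ℕ) : ℕ∞) ≤ ((l : ℕ) : ℕ∞) := by exact_mod_cast h5
              exact this
          exact WithBot.coe_le_coe.2 h2

theorem iSup_add_eq {ι κ : Type*} (a : ι → WithBot ℕ∞) (b : κ → WithBot ℕ∞) :
    ⨆ p : ι × κ, (a p.1 + b p.2) = (⨆ i, a i) + ⨆ j, b j := by
  apply le_antisymm
  · exact iSup_le fun p => add_le_add (le_iSup a p.1) (le_iSup b p.2)
  · refine le_of_forall_natCast_le fun n hn => ?_
    obtain ⟨n₁, n₂, rfl, h1, h2⟩ := exists_add_of_natCast_le hn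
    rw [natCast_le_iSup_iff] at h1 h2
    obtain ⟨i, hi⟩ := h1
    obtain ⟨j, hj⟩ := h2
    refine le_trans ?_ (le_iSup (fun p : ι × κ => a p.1 + b p.2) (i, j))
    rw [Nat.cast_add]
    exact add_le_add hi hj

theorem ringKrullDim_tensor (A B : Type u) [CommRing A] [CommRing B] [Algebra k A] [Algebra k B]
    [Algebra.FiniteType k A] [Algebra.FiniteType k B] :
    ringKrullDim (A ⊗[k] B) = ringKrullDim A + ringKrullDim B := by
  rcases subsingleton_or_nontrivial A with hA | hA
  · have : Subsingleton (A ⊗[k] B) := by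
      have h1 : (1 : A ⊗[k] B) = 0 := by
        rw [Algebra.TensorProduct.one_def, Subsingleton.elim (1 : A) 0, zero_tmul]
      exact subsingleton_of_zero_eq_one h1.symm
    rw [ringKrullDim_eq_bot_of_subsingleton, ringKrullDim_eq_bot_of_subsingleton, WithBot.bot_add]
  rcases subsingleton_or_nontrivial B with hB | hB
  · have : Subsingleton (A ⊗[k] B) := by
      have h1 : (1 : A ⊗[k] B) = 0 := by
        rw [Algebra.TensorProduct.one_def, Subsingleton.elim (1 : B) 0, tmul_zero]
      exact subsingleton_of_zero_eq_one h1.symm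
    rw [ringKrullDim_eq_bot_of_subsingleton, ringKrullDim_eq_bot_of_subsingleton (R := B),
      WithBot.add_bot]
  obtain ⟨n, m, h1, h2, h3⟩ :=
    Groth.Agent.CycA.ProdDim.exists_ringKrullDim_tensorProduct k A B
  rw [h1, h2, h3, Nat.cast_add]

theorem topologicalKrullDim_pullback_of_affine {X Y : Scheme.{u}} [IsAffine X] [IsAffine Y]
    (f : X ⟶ Spec (CommRingCat.of k)) (g : Y ⟶ Spec (CommRingCat.of k)) [LocallyOfFiniteType f]
    [LocallyOfFiniteType g] :
    topologicalKrullDim ↥(pullback f g) = topologicalKrullDim ↥X + topologicalKrullDim ↥Y := by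
  let A := Γ(X, ⊤)
  let B := Γ(Y, ⊤)
  let φ : CommRingCat.of k ⟶ A := (Scheme.ΓSpecIso _).inv ≫ f.appTop
  let ψ : CommRingCat.of k ⟶ B := (Scheme.ΓSpecIso _).inv ≫ g.appTop
  have hf : X.isoSpec.hom ≫ Spec.map φ = f := by
    simp [φ, Spec.map_comp, Scheme.isoSpec_hom_naturality_assoc]
  have hg : Y.isoSpec.hom ≫ Spec.map ψ = g := by
    simp [ψ, Spec.map_comp, Scheme.isoSpec_hom_naturality_assoc]
  let _ : Algebra k A := φ.hom.toAlgebra
  let _ : Algebra k B := ψ.hom.toAlgebra
  have hft : Algebra.FiniteType k A := by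
    have : LocallyOfFiniteType (Spec.map φ) := by
      refine (MorphismProperty.cancel_left_of_respectsIso @LocallyOfFiniteType X.isoSpec.hom _).mp ?_
      rw [hf]
      infer_instance
    rw [HasRingHomProperty.Spec_iff (P := @LocallyOfFiniteType)] at this
    exact this
  have hft' : Algebra.FiniteType k B := by
    have : LocallyOfFiniteType (Spec.map ψ) := by
      refine (MorphismProperty.cancel_left_of_respectsIso @LocallyOfFiniteType Y.isoSpec.hom _).mp ?_
      rw [hg]
      infer_instance
    rw [HasRingHomProperty.Spec_iff (P := @LocallyOfFiniteType)] at this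
    exact this
  have h1 : IsPullback (pullback.fst f g ≫ X.isoSpec.hom) (pullback.snd f g ≫ Y.isoSpec.hom)
      (Spec.map φ) (Spec.map ψ) := by
    refine IsPullback.of_iso (IsPullback.of_hasPullback f g) (Iso.refl _) X.isoSpec Y.isoSpec
      (Iso.refl _) ?_ ?_ ?_ ?_
    · simp
    · simp
    · simp [hf]
    · simp [hg]
  have h2 := isPullback_SpecMap_of_isPushout _ _ _ _ (CommRingCat.isPushout_tensorProduct k A B)
  let e : pullback f g ≅ Spec (.of (A ⊗[k] B)) := h1.isoIsPullback _ _ h2
  rw [Groth.Agent.S1464.topologicalKrullDim_eq_of_iso e,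
    Groth.Agent.S1464.topologicalKrullDim_eq_of_iso X.isoSpec,
    Groth.Agent.S1464.topologicalKrullDim_eq_of_iso Y.isoSpec,
    Groth.Agent.S1464.topologicalKrullDim_Spec, ringKrullDim_tensor]
  exact congrArg₂ _ (Groth.Agent.S1464.topologicalKrullDim_Spec A).symm
    (Groth.Agent.S1464.topologicalKrullDim_Spec B).symm

theorem topologicalKrullDim_pullback_eq_add {X Y : Scheme.{u}}
    (f : X ⟶ Spec (CommRingCat.of k)) (g : Y ⟶ Spec (CommRingCat.of k)) [LocallyOfFiniteType f]
    [LocallyOfFiniteType g] :
    topologicalKrullDim ↥(pullback f g) = topologicalKrullDim ↥X + topologicalKrullDim ↥Y := by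
  rw [Groth.Agent.Flat2D.FibreDimSch.topologicalKrullDim_eq_iSup_openCover X X.affineCover,
    Groth.Agent.Flat2D.FibreDimSch.topologicalKrullDim_eq_iSup_openCover Y Y.affineCover,
    Groth.Agent.Flat2D.FibreDimSch.topologicalKrullDim_eq_iSup_openCover _
      (Scheme.Pullback.openCoverOfLeftRight X.affineCover Y.affineCover f g), ← iSup_add_eq]
  refine iSup_congr fun p => ?_
  exact topologicalKrullDim_pullback_of_affine (X.affineCover.f p.1 ≫ f)
    (Y.affineCover.f p.2 ≫ g)

end K106.Dim
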