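import Groth.Agent.FBase.K106.Basic
import Mathlib.AlgebraicGeometry.Geometrically.Integral
import Mathlib.AlgebraicGeometry.Morphisms.Flat
import Mathlib.RingTheory.Flat.FaithfullyFlat.Algebra

/-!
# Descent of geometric properties along an extension of the base field

* `stalkMap_injective_of_flat`, `isReduced_of_flat_surjective`
* `geometricallyReduced_of_pullback_snd`, `geometricallyIrreducible_of_pullback_snd`,
  `geometricallyIntegral_of_pullback_snd`.
-/

set_option autoImplicit false

universe u

open CategoryTheory CategoryTheory.Limits AlgebraicGeometry

namespace K106.GeomDesc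

/-- The stalk maps of a flat morphism are injective. -/
theorem stalkMap_injective_of_flat {X Y : Scheme.{u}} (g : X ⟶ Y) [hg : Flat g] (z : X) :
    Function.Injective (g.stalkMap z).hom := by
  algebraize [(g.stalkMap z).hom]
  have : Module.FaithfullyFlat (Y.presheaf.stalk (g z)) (X.presheaf.stalk z) :=
    @Module.FaithfullyFlat.of_flat_of_isLocalHom _ _ _ _ _ _ _
      (Flat.stalkMap g z) (g.toLRSHom.prop z)
  exact ‹RingHom.FaithfullyFlat _›.injective

/-- Reducedness descends along flat surjective morphisms. -/
theorem isReduced_of_flat_surjective {X Y : Scheme.{u}} (g : X ⟶ Y) [Flat g] [Surjective g]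
    [IsReduced X] : IsReduced Y := by
  have : ∀ y : Y, _root_.IsReduced (Y.presheaf.stalk y) := by
    intro y
    obtain ⟨z, rfl⟩ := g.surjective y
    exact isReduced_of_injective (g.stalkMap z).hom (stalkMap_injective_of_flat g z)
  exact isReduced_of_isReduced_stalk Y

section

variable {k : Type u} [Field k] {X : Scheme.{u}} (f : X ⟶ Spec (CommRingCat.of k))

instance flat_bcMap (k k' K : Type u) [Field k] [Field k'] [Field K] [Algebra k k'] [Algebra k' K]
    [Algebra k K] [IsScalarTower k k' K] {X : Scheme.{u}} (f : X ⟶ Spec (.of k)) :
    Flat (Groth.Agent.VarietyA.GeomIrr.bcMap k k' K f) := by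
  unfold Groth.Agent.VarietyA.GeomIrr.bcMap
  infer_instance

/-- A property of schemes which is invariant under isomorphism and descends along the maps
`X_M ⟶ X_L` descends geometrically. -/
theorem geometrically_of_pullback_snd (P : ObjectProperty Scheme.{u})
    [P.IsClosedUnderIsomorphisms]
    (hP : ∀ (L M : Type u) [Field L] [Field M] [Algebra k L] [Algebra L M] [Algebra k M]
      [IsScalarTower k L M], P (pullback f (Spec.map (CommRingCat.ofHom (algebraMap k M)))) →
        P (pullback f (Spec.map (CommRingCat.ofHom (algebraMap k L)))))
    (K : Type u) [Field K] [Algebra k K]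
    (h : geometrically P (pullback.snd f (Spec.map (CommRingCat.ofHom (algebraMap k K))))) :
    geometrically P f := by
  rw [geometrically_iff_of_commRing_of_isClosedUnderIsomorphisms]
  intro L _ _
  obtain ⟨M, _, _, _, _, _, _⟩ := Groth.Agent.Fdesc.BaseField.exists_common_field k K L
  have h1 : P (pullback
      (pullback.snd f (Spec.map (CommRingCat.ofHom (algebraMap k K))))
      (Spec.map (CommRingCat.ofHom (algebraMap K M)))) :=
    pullback_of_geometrically h M _
  have h2 := P.prop_of_iso (Groth.Agent.VarietyA.GeomIrr.bcIso k K M f) h1
  exact hP L M h2

/-- Geometric reducedness can be checked after one extension of the base field. -/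
theorem geometricallyReduced_of_pullback_snd (K : Type u) [Field K] [Algebra k K]
    [h : GeometricallyReduced (pullback.snd f (Spec.map (CommRingCat.ofHom (algebraMap k K))))] :
    GeometricallyReduced f := by
  refine ⟨geometrically_of_pullback_snd f (IsReduced ·) ?_ K h.geometrically_isReduced⟩
  intro L M _ _ _ _ _ _ h
  exact isReduced_of_flat_surjective (Groth.Agent.VarietyA.GeomIrr.bcMap k L M f)

/-- Geometric irreducibility can be checked after one extension of the base field. -/
theorem geometricallyIrreducible_of_pullback_snd (K : Type u) [Field K] [Algebra k K]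
    [h : GeometricallyIrreducible
      (pullback.snd f (Spec.map (CommRingCat.ofHom (algebraMap k K))))] :
    GeometricallyIrreducible f := by
  refine ⟨geometrically_of_pullback_snd f (IrreducibleSpace ·) ?_ K
    h.geometrically_irreducibleSpace⟩
  intro L M _ _ _ _ _ _ h
  exact Groth.Agent.VarietyA.GeomIrr.irreducibleSpace_of_surjective
    (Groth.Agent.VarietyA.GeomIrr.bcMap k L M f)

/-- Geometric integrality can be checked after one extension of the base field. -/
theorem geometricallyIntegral_of_pullback_snd (K : Type u) [Field K] [Algebra k K]
    [h : GeometricallyIntegral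
      (pullback.snd f (Spec.map (CommRingCat.ofHom (algebraMap k K))))] :
    GeometricallyIntegral f := by
  have h' := h
  rw [GeometricallyIntegral.eq_geometricallyReduced_inf_geometricallyIrreducible] at h'
  obtain ⟨h1, h2⟩ := h'
  have := geometricallyReduced_of_pullback_snd f K
  have := geometricallyIrreducible_of_pullback_snd f K
  exact GeometricallyIntegral.of_geometricallyReduced_of_geometricallyIrreducible f

end

end K106.GeomDesc
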