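import Groth.Agent.FBase.K106.Basic
import Groth.Agent.Ega1.ReducedSub

/-!
# Preimages of connected closed subsets under extension of the base field

* `exists_reduced_closed`, `exists_integral_closed`: reduced closed subschemes
* `isConnected_preimage_of_subset`: if `C` is a connected closed subset of `X` containing a subset
  `A` whose preimage in `X_K` is connected, then the preimage of `C` is connected.
-/

set_option autoImplicit false

universe u

open CategoryTheory CategoryTheory.Limits AlgebraicGeometry

namespace K106.ConnPre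

/-- The reduced closed subscheme on a closed set. -/
theorem exists_reduced_closed {X : Scheme.{u}} (C : Set X) (hC : IsClosed C) :
    ∃ (W : Scheme.{u}) (j : W ⟶ X), IsClosedImmersion j ∧ IsReduced W ∧ Set.range j = C := by
  refine ⟨(Scheme.IdealSheafData.vanishingIdeal ⟨C, hC⟩).subscheme,
    (Scheme.IdealSheafData.vanishingIdeal ⟨C, hC⟩).subschemeι, inferInstance,
    Groth.Agent.Ega1.ReducedSub.isReduced_subscheme_vanishingIdeal _, ?_⟩
  rw [Scheme.IdealSheafData.range_subschemeι]
  exact Scheme.IdealSheafData.coe_support_vanishingIdeal _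

/-- The integral closed subscheme on an irreducible closed set. -/
theorem exists_integral_closed {X : Scheme.{u}} (C : Set X) (hC : IsClosed C)
    (hCi : IsIrreducible C) :
    ∃ (W : Scheme.{u}) (j : W ⟶ X), IsClosedImmersion j ∧ IsIntegral W ∧ Set.range j = C := by
  obtain ⟨W, j, h1, h2, h3⟩ := exists_reduced_closed C hC
  refine ⟨W, j, h1, ?_, h3⟩
  have h4 : IsIrreducible (Set.range j) := by rw [h3]; exact hCi
  have e : W ≃ₜ Set.range j := j.isClosedEmbedding.isEmbedding.toHomeomorph
  have : IrreducibleSpace W :=
    e.irreducibleSpace_iff.2 (isIrreducible_iff_irreducibleSpace.1 h4)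
  exact isIntegral_of_irreducibleSpace_of_isReduced W

theorem connectedSpace_of_range {X W : Scheme.{u}} (j : W ⟶ X) [IsClosedImmersion j]
    (h : _root_.IsConnected (Set.range j)) : ConnectedSpace W := by
  have e : W ≃ₜ Set.range j := j.isClosedEmbedding.isEmbedding.toHomeomorph
  have h1 : ConnectedSpace (Set.range j) := isConnected_iff_connectedSpace.1 h
  exact e.symm.surjective.connectedSpace e.symm.continuous

section

variable {k : Type u} [Field k] {X : Scheme.{u}} (f : X ⟶ Spec (CommRingCat.of k))

/-- If `C` is a connected closed subset of `X` containing a subset `A` whose preimage in `X_K` is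
connected, then the preimage of `C` is connected. -/
theorem isConnected_preimage_of_subset (K : Type u) [Field K] [Algebra k K] {C A : Set X}
    (hC : IsClosed C) (hCc : _root_.IsConnected C) (hAC : A ⊆ C)
    (hA : _root_.IsConnected (pullback.fst f (Spec.map (CommRingCat.ofHom (algebraMap k K))) ⁻¹' A)) :
    _root_.IsConnected (pullback.fst f (Spec.map (CommRingCat.ofHom (algebraMap k K))) ⁻¹' C) := by
  obtain ⟨W, j, hj, -, hjC⟩ := exists_reduced_closed C hC
  have hW : ConnectedSpace W := connectedSpace_of_range j (by rw [hjC]; exact hCc)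
  let i := Spec.map (CommRingCat.ofHom (algebraMap k K))
  let G := K106.Basic.bcHom j f i
  have hG : IsClosedImmersion G := K106.Basic.bcHom_prop (P := @IsClosedImmersion) j f i hj
  have hrange : Set.range G = pullback.fst f i ⁻¹' C := by
    rw [K106.Basic.range_bcHom, hjC]
  let S' : Set ↥(pullback (j ≫ f) i) := G ⁻¹' (pullback.fst f i ⁻¹' A)
  have hS' : _root_.IsPreconnected S' := by
    rw [← G.isClosedEmbedding.isInducing.isPreconnected_image]
    rw [Set.image_preimage_eq_of_subset]
    · exact hA.isPreconnected
    · rw [hrange]; exact Set.preimage_mono hAC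
  have key : ∀ U : Set ↥(pullback (j ≫ f) i), IsClopen U → U.Nonempty → (S' ∩ U).Nonempty := by
    intro U hU hne
    obtain ⟨a', ha'⟩ := hA.nonempty
    have h1 : pullback.fst f i a' ∈ Set.range j := by rw [hjC]; exact hAC ha'
    obtain ⟨w, hw⟩ := h1
    have h2 := Groth.Agent.Fdesc.GeomConn.image_eq_univ (j ≫ f) K U hU hne
    have h3 : w ∈ pullback.fst (j ≫ f) i '' U := by rw [h2]; trivial
    obtain ⟨v, hvU, hv⟩ := h3
    refine ⟨v, ?_, hvU⟩
    change pullback.fst f i (G v) ∈ A
    have h4 : pullback.fst f i (G v) = j (pullback.fst (j ≫ f) i v) := by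
      rw [← Scheme.Hom.comp_apply, ← Scheme.Hom.comp_apply, K106.Basic.bcHom_fst]
    rw [h4, hv, hw]
    exact ha'
  have hne : Nonempty ↥(pullback (j ≫ f) i) := by
    obtain ⟨a', ha'⟩ := hA.nonempty
    have h1 : a' ∈ Set.range G := by rw [hrange]; exact hAC ha'
    obtain ⟨w, -⟩ := h1
    exact ⟨w⟩
  have hpre : PreconnectedSpace ↥(pullback (j ≫ f) i) := by
    rw [preconnectedSpace_iff_clopen]
    intro U hU
    by_contra! hcon
    obtain ⟨h1, h2⟩ := hcon
    have h3 := key U hU h1
    have h4 := key Uᶜ hU.compl (Set.nonempty_compl.mpr h2)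
    have h5 := hS'.subset_isClopen hU h3
    obtain ⟨z, hz, hzU⟩ := h4
    exact hzU (h5 hz)
  have hcon : ConnectedSpace ↥(pullback (j ≫ f) i) :=
    { toPreconnectedSpace := hpre, toNonempty := hne }
  rw [← hrange]
  exact isConnected_range G.continuous

end

end K106.ConnPre
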