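import Groth.Agent.CycA.ProdDim
import Groth.Agent.Etbc.H218.FrontierDim
import Groth.Agent.FBase.K106.ConnPre
import Mathlib.Topology.KrullDimension
import Mathlib.Topology.LocallyClosed
import Mathlib.AlgebraicGeometry.Morphisms.FiniteType

/-!
# Nowhere dense locally closed subsets of equidimensional schemes over a field
-/

set_option autoImplicit false

universe u

open CategoryTheory CategoryTheory.Limits AlgebraicGeometry TopologicalSpace

namespace K106.NowhereDense

/-- If `Z` has dimension at least that of `Y`, and the latter is finite, then the closure of `Z`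
contains an irreducible component. -/
theorem exists_component_subset_closure {Y : Type*} [TopologicalSpace Y] (n : ℕ)
    (hn : topologicalKrullDim Y = n) (Z : Set Y) (h : (n : WithBot ℕ∞) ≤ topologicalKrullDim Z) :
    ∃ T ∈ irreducibleComponents Y, T ⊆ closure Z := by
  obtain ⟨p, hp⟩ := Order.le_krullDim_iff.1 h
  let F : IrreducibleCloseds Z → IrreducibleCloseds Y :=
    IrreducibleCloseds.map Subtype.val continuous_subtype_val
  have hF : StrictMono F :=
    IrreducibleCloseds.map_strictMono_of_isInducing Topology.IsInducing.subtypeVal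
  let q : LTSeries (IrreducibleCloseds Y) := p.map F hF
  have hqn : q.length = n := hp
  let W : IrreducibleCloseds Y := q.last
  obtain ⟨T, hT, hWT⟩ := exists_mem_irreducibleComponents_subset_of_isIrreducible (W : Set Y) W.2
  refine ⟨T, hT, ?_⟩
  have hWZ : (W : Set Y) ⊆ closure Z := by
    have h1 : W = F p.last := rfl
    rw [h1]
    change closure (Subtype.val '' (p.last : Set Z)) ⊆ closure Z
    exact closure_mono (by rintro _ ⟨z, -, rfl⟩; exact z.2)
  by_cases hW : (W : Set Y) = T
  · rw [← hW]; exact hWZ
  · exfalso
    let T' : IrreducibleCloseds Y := ⟨T, hT.1, isClosed_of_mem_irreducibleComponents T hT⟩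
    have hlt : W < T' := lt_of_le_of_ne hWT (fun h => hW (congrArg (fun s : IrreducibleCloseds Y => (s : Set Y)) h))
    have h1 : ((q.snoc T' hlt).length : WithBot ℕ∞) ≤ topologicalKrullDim Y :=
      Order.LTSeries.length_le_krullDim _
    rw [hn] at h1
    have h2 : (q.snoc T' hlt).length = n + 1 := by
      rw [RelSeries.snoc_length, hqn]
    rw [h2] at h1
    have h3 : n + 1 ≤ n := by exact_mod_cast h1
    omega

variable {k : Type u} [Field k] {Y : Scheme.{u}} (g : Y ⟶ Spec (CommRingCat.of k))

/-- A nonempty open subset of `Y` contained in `Z` meets an irreducible component `T`: then the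
dimension of `Z` is at least that of `T`. -/
theorem dim_le_of_open_subset [LocallyOfFiniteType g] {Z V T : Set Y} (hV : IsOpen V)
    (hVZ : V ⊆ Z) (hT : T ∈ irreducibleComponents Y) (hne : (V ∩ T).Nonempty) :
    topologicalKrullDim T ≤ topologicalKrullDim Z := by
  obtain ⟨W, j, hj, hW, hjT⟩ := K106.ConnPre.exists_integral_closed T
    (isClosed_of_mem_irreducibleComponents T hT) hT.1
  let U : W.Opens := j ⁻¹ᵁ ⟨V, hV⟩
  have hU : Nonempty U := by
    obtain ⟨y, hyV, hyT⟩ := hne
    rw [← hjT] at hyT
    obtain ⟨w, rfl⟩ := hyT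
    exact ⟨⟨w, hyV⟩⟩
  have h1 : topologicalKrullDim (U : Scheme.{u}) = topologicalKrullDim W :=
    Groth.Agent.CycA.ProdDim.dim_of_isOpenImmersion (j ≫ g) U.ι
  have h2 : topologicalKrullDim W = topologicalKrullDim T := by
    rw [← hjT]
    exact IsHomeomorph.topologicalKrullDim_eq _
      j.isClosedEmbedding.isEmbedding.toHomeomorph.isHomeomorph
  rw [← h2, ← h1]
  let φ : U → Z := fun u => ⟨j u.1, hVZ u.2⟩
  have hφ : Topology.IsInducing φ := by
    have h3 : Topology.IsInducing (Subtype.val ∘ φ) :=
      j.isClosedEmbedding.isInducing.comp Topology.IsInducing.subtypeVal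
    exact Topology.IsInducing.of_comp
      (by exact (j.continuous.comp continuous_subtype_val).subtype_mk _)
      continuous_subtype_val h3
  exact hφ.topologicalKrullDim_le

theorem main [Nonempty Y] [LocallyOfFiniteType g]
    (heq : ∀ T ∈ irreducibleComponents Y, topologicalKrullDim T = topologicalKrullDim Y)
    (Z : Set Y) (hZ : IsLocallyClosed Z) :
    IsNowhereDense Z ↔ topologicalKrullDim Z < topologicalKrullDim Y := by
  have hN : IsLocallyNoetherian Y := LocallyOfFiniteType.isLocallyNoetherian g
  constructor
  · intro hnd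
    obtain ⟨y⟩ := (inferInstance : Nonempty Y)
    obtain ⟨W, j, hj, hW, hjT⟩ := K106.ConnPre.exists_integral_closed (irreducibleComponent y)
      isClosed_irreducibleComponent isIrreducible_irreducibleComponent
    obtain ⟨n, -, hn⟩ := Groth.Agent.CycA.ProdDim.exists_dim (j ≫ g)
    have hn' : topologicalKrullDim Y = n := by
      rw [← heq _ (irreducibleComponent_mem_irreducibleComponents y), ← hn, ← hjT]
      exact (IsHomeomorph.topologicalKrullDim_eq _
        j.isClosedEmbedding.isEmbedding.toHomeomorph.isHomeomorph).symm
    by_contra hcon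
    rw [not_lt, hn'] at hcon
    obtain ⟨T, hT, hTZ⟩ := exists_component_subset_closure n hn' Z hcon
    have h1 := Groth.Agent.Etbc.H218.FrontierDim.nonempty_interior Y T hT
    have h2 : interior T ⊆ interior (closure Z) := interior_mono hTZ
    rw [IsNowhereDense] at hnd
    rw [hnd] at h2
    obtain ⟨z, hz⟩ := h1
    exact h2 hz
  · intro hlt
    rw [IsNowhereDense]
    by_contra hne
    have hne' : (interior (closure Z)).Nonempty := Set.nonempty_iff_ne_empty.2 hne
    have hZ' := hZ
    obtain ⟨O, C, hO, hC, rfl⟩ := hZ'
    -- the open subset `O ∩ interior (closure Z)`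
    set Z : Set Y := O ∩ C with hZdef
    have hVo : IsOpen (O ∩ interior (closure Z)) := hO.inter isOpen_interior
    have hVZ : O ∩ interior (closure Z) ⊆ Z := by
      rintro z ⟨hzO, hz⟩
      refine ⟨hzO, ?_⟩
      have h1 := interior_subset hz
      have h2 : closure Z ⊆ C := closure_minimal Set.inter_subset_right hC
      exact h2 h1
    have hVne : (O ∩ interior (closure Z)).Nonempty := by
      obtain ⟨y, hy⟩ := hne'
      have h1 : y ∈ closure Z := interior_subset hy
      obtain ⟨z, hz1, hz2⟩ := mem_closure_iff.1 h1 _ isOpen_interior hy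
      exact ⟨z, hz2.1, hz1⟩
    obtain ⟨v, hv⟩ := hVne
    have h3 := dim_le_of_open_subset g (T := irreducibleComponent v) hVo hVZ
      (irreducibleComponent_mem_irreducibleComponents v) ⟨v, hv, mem_irreducibleComponent⟩
    rw [heq _ (irreducibleComponent_mem_irreducibleComponents v)] at h3
    exact absurd hlt (not_lt.2 h3)

end K106.NowhereDense
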