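import Groth.Agent.Fdesc.GeomConn
import Groth.Agent.Fdesc.BaseField

/-!
# Base change of morphisms over a field, basic facts

* `bcHom`: for `g : Y ⟶ X` and `f : X ⟶ S` the morphism `Y ×_S T ⟶ X ×_S T`, with its pullback square.
-/

set_option autoImplicit false

universe u

open CategoryTheory CategoryTheory.Limits AlgebraicGeometry

namespace K106.Basic

section bcHom

variable {X Y S T : Scheme.{u}} (g : Y ⟶ X) (f : X ⟶ S) (i : T ⟶ S)

/-- The base change `Y ×_S T ⟶ X ×_S T` of `g : Y ⟶ X`. -/
noncomputable def bcHom : pullback (g ≫ f) i ⟶ pullback f i :=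
  pullback.lift (pullback.fst (g ≫ f) i ≫ g) (pullback.snd (g ≫ f) i)
    (by rw [Category.assoc, pullback.condition])

@[reassoc (attr := simp)]
theorem bcHom_fst : bcHom g f i ≫ pullback.fst f i = pullback.fst (g ≫ f) i ≫ g :=
  pullback.lift_fst _ _ _

@[reassoc (attr := simp)]
theorem bcHom_snd : bcHom g f i ≫ pullback.snd f i = pullback.snd (g ≫ f) i :=
  pullback.lift_snd _ _ _

theorem bcHom_isPullback :
    IsPullback (bcHom g f i) (pullback.fst (g ≫ f) i) (pullback.fst f i) g := by
  refine IsPullback.of_right (h₁₂ := pullback.snd f i) (v₁₃ := i) (h₂₂ := f) ?_ ?_ ?_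
  · rw [bcHom_snd]
    exact (IsPullback.of_hasPullback (g ≫ f) i).flip
  · rw [bcHom_fst]
  · exact (IsPullback.of_hasPullback f i).flip

theorem bcHom_prop {P : MorphismProperty Scheme.{u}} [P.IsStableUnderBaseChange] (hg : P g) :
    P (bcHom g f i) :=
  MorphismProperty.of_isPullback (bcHom_isPullback g f i).flip hg

instance [Surjective g] : Surjective (bcHom g f i) :=
  bcHom_prop (P := @Surjective) g f i inferInstance

theorem range_bcHom : Set.range (bcHom g f i) = pullback.fst f i ⁻¹' Set.range g := by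
  ext z
  constructor
  · rintro ⟨w, rfl⟩
    refine ⟨pullback.fst (g ≫ f) i w, ?_⟩
    rw [← Scheme.Hom.comp_apply, ← Scheme.Hom.comp_apply, bcHom_fst]
  · rintro ⟨y, hy⟩
    obtain ⟨w, hw, -⟩ := Scheme.exists_preimage_of_isPullback (bcHom_isPullback g f i) z y hy.symm
    exact ⟨w, hw⟩

end bcHom

end K106.Basic
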