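import Groth.Agent.S2278
import Groth.Agent.CurvesC.NormSections
import Groth.Agent.Fdesc.GenTop
import Mathlib.AlgebraicGeometry.Noetherian

/-!
# Noetherian schemes with as many irreducible components as connected components
-/

set_option autoImplicit false

universe u

open CategoryTheory CategoryTheory.Limits AlgebraicGeometry TopologicalSpace

namespace K106.IrrConn

section Top

variable {X : Type u} [TopologicalSpace X]

/-- The map sending an irreducible component to the connected component containing it. -/
noncomputable def toConn [QuasiSober X] (Z : irreducibleComponents X) : ConnectedComponents X :=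
  ConnectedComponents.mk Z.2.1.genericPoint

theorem toConn_eq [QuasiSober X] (Z : irreducibleComponents X) (x : X) (hx : x ∈ (Z : Set X)) :
    toConn Z = ConnectedComponents.mk x := by
  rw [toConn, ConnectedComponents.coe_eq_coe']
  refine Z.2.1.2.isPreconnected.subset_connectedComponent hx ?_
  have h := Z.2.1.closure_genericPoint (isClosed_of_mem_irreducibleComponents _ Z.2)
  exact h.subset (subset_closure rfl)

theorem surjective_toConn [QuasiSober X] : Function.Surjective (toConn (X := X)) := by
  intro c
  obtain ⟨x, rfl⟩ := ConnectedComponents.surjective_coe c
  exact ⟨⟨irreducibleComponent x, irreducibleComponent_mem_irreducibleComponents x⟩,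
    toConn_eq _ x mem_irreducibleComponent⟩

theorem isIrreducible_connectedComponent_of_injective [QuasiSober X]
    (h : Function.Injective (toConn (X := X))) (x : X) : IsIrreducible (connectedComponent x) := by
  have h1 : connectedComponent x = irreducibleComponent x := by
    apply Set.Subset.antisymm
    · intro y hy
      have h2 : toConn (⟨irreducibleComponent y, irreducibleComponent_mem_irreducibleComponents y⟩ :
          irreducibleComponents X) = toConn ⟨irreducibleComponent x,
            irreducibleComponent_mem_irreducibleComponents x⟩ := by
        rw [toConn_eq _ y mem_irreducibleComponent, toConn_eq _ x mem_irreducibleComponent,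
          ConnectedComponents.coe_eq_coe']
        exact hy
      have h3 := congrArg Subtype.val (h h2)
      change irreducibleComponent y = irreducibleComponent x at h3
      rw [← h3]
      exact mem_irreducibleComponent
    · exact irreducibleComponent_subset_connectedComponent
  rw [h1]
  exact isIrreducible_irreducibleComponent

theorem injective_toConn [QuasiSober X]
    (h : ∀ x : X, IsIrreducible (connectedComponent x)) : Function.Injective (toConn (X := X)) := by
  intro Z Z' hZ
  obtain ⟨x, hx⟩ := Z.2.1.nonempty
  obtain ⟨y, hy⟩ := Z'.2.1.nonempty
  rw [toConn_eq Z x hx, toConn_eq Z' y hy, ConnectedComponents.coe_eq_coe] at hZ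
  have h1 : (Z : Set X) = connectedComponent x :=
    Set.Subset.antisymm (Z.2.1.2.isPreconnected.subset_connectedComponent hx)
      (Z.2.2 (h x) (Z.2.1.2.isPreconnected.subset_connectedComponent hx))
  have h2 : (Z' : Set X) = connectedComponent y :=
    Set.Subset.antisymm (Z'.2.1.2.isPreconnected.subset_connectedComponent hy)
      (Z'.2.2 (h y) (Z'.2.1.2.isPreconnected.subset_connectedComponent hy))
  exact Subtype.ext (h1.trans (hZ.trans h2.symm))

theorem card_eq_iff [QuasiSober X] [Finite (irreducibleComponents X)] :
    Nat.card (irreducibleComponents X) = Nat.card (ConnectedComponents X) ↔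
      ∀ x : X, IsIrreducible (connectedComponent x) := by
  have hfin : Finite (ConnectedComponents X) := Finite.of_surjective _ surjective_toConn
  constructor
  · intro h x
    refine isIrreducible_connectedComponent_of_injective ?_ x
    exact ((Nat.bijective_iff_surjective_and_card _).2 ⟨surjective_toConn, h⟩).1
  · intro h
    exact Nat.card_congr (Equiv.ofBijective _ ⟨injective_toConn h, surjective_toConn⟩)

end Top

/-- On a Noetherian scheme, the local rings are domains iff the scheme is reduced and the connected
components are irreducible. -/
theorem forall_isDomain_stalk_iff (X : Scheme.{u}) [IsNoetherian X] :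
    (∀ x : X, IsDomain (X.presheaf.stalk x)) ↔
      (IsReduced X ∧ ∀ x : X, IsIrreducible (connectedComponent x)) := by
  have hX : ∀ x : X, ∃ U ∈ nhds x, NoetherianSpace U := fun x =>
    ⟨Set.univ, Filter.univ_mem, inferInstance⟩
  have htfae := Groth.Agent.S2278.result X hX
  constructor
  · intro h
    refine ⟨isReduced_of_isReduced_stalk X, ?_⟩
    have h1 : (irreducibleComponents X).PairwiseDisjoint id := by
      intro Z hZ Z' hZ' hne
      by_contra hd
      obtain ⟨x, hx, hx'⟩ := Set.not_disjoint_iff.mp hd
      exact hne (Groth.Agent.CurvesC.NormSections.eq_of_mem_of_mem (h x) hZ hZ' hx hx')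
    exact (htfae.out 3 2).1 h1
  · rintro ⟨hred, hirr⟩ x
    have h1 : ∀ Z ∈ irreducibleComponents X, IsOpen Z := (htfae.out 2 0).1 hirr
    let U : X.Opens := ⟨irreducibleComponent x,
      h1 _ (irreducibleComponent_mem_irreducibleComponents x)⟩
    have hU : IrreducibleSpace U :=
      isIrreducible_iff_irreducibleSpace.1 (isIrreducible_irreducibleComponent (x := x))
    have hU' : IsIntegral (U : Scheme.{u}) := isIntegral_of_irreducibleSpace_of_isReduced _
    let x' : U := ⟨x, mem_irreducibleComponent⟩
    have h2 : IsDomain ((U : Scheme.{u}).presheaf.stalk x') := inferInstance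
    have h3 : IsIso (U.ι.stalkMap x') := inferInstance
    have e := (asIso (U.ι.stalkMap x')).commRingCatIsoToRingEquiv
    exact e.toMulEquiv.isDomain _

end K106.IrrConn
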