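import Groth.Agent.S2512
import Mathlib.RingTheory.Ideal.AssociatedPrime.Localization
import Mathlib.RingTheory.Localization.BaseChange
import Mathlib.RingTheory.TensorProduct.Basic
import Mathlib.RingTheory.Localization.Ideal
import Mathlib.RingTheory.Flat.TorsionFree

/-!
# Associated primes of the tensor product of two domains over a field

* `subset_minimalPrimes_of_isLocalization`, `associatedPrimes_tensor_domains_subset`.
-/

set_option autoImplicit false

universe u

open TensorProduct

namespace K106.AssTensor

theorem disjoint_of_mem_associatedPrimes {R : Type*} [CommRing R] {M : Submonoid R}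
    (hM : M ≤ nonZeroDivisors R) {P : Ideal R} (hP : P ∈ associatedPrimes R R) :
    Disjoint (M : Set R) (P : Set R) := by
  rw [Set.disjoint_left]
  intro r hrM hrP
  obtain ⟨hprime, x, hx⟩ := hP
  rw [hx] at hrP
  obtain ⟨n, hn⟩ := hrP
  rw [Submodule.mem_colon_singleton, Submodule.mem_bot, smul_eq_mul, mul_comm] at hn
  have h1 : x = 0 := (mem_nonZeroDivisors_iff_right.1 (pow_mem (hM hrM) n)) x hn
  apply hprime.ne_top
  rw [hx, h1, Ideal.radical_eq_top, Ideal.eq_top_iff_one, Submodule.mem_colon_singleton]
  simp

/-- If `R'` is the localization of `R` at nonzerodivisors and `R'` has no embedded primes then `R` has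
none. -/
theorem subset_minimalPrimes_of_isLocalization {R : Type*} [CommRing R] (M : Submonoid R)
    (R' : Type*) [CommRing R'] [Algebra R R'] [IsLocalization M R'] (hM : M ≤ nonZeroDivisors R)
    (h : associatedPrimes R' R' ⊆ minimalPrimes R') :
    associatedPrimes R R ⊆ minimalPrimes R := by
  intro P hP
  have hPp : P.IsPrime := hP.isPrime
  have hdisj := disjoint_of_mem_associatedPrimes hM hP
  have hcomap : (P.map (algebraMap R R')).comap (algebraMap R R') = P :=
    IsLocalization.under_map_of_isPrime_disjoint M R' hPp hdisj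
  have h1 : P.map (algebraMap R R') ∈ associatedPrimes R' R' := by
    refine Module.associatedPrimes.mem_associatedPrimes_of_comap_mem_associatedPrimes_of_isLocalizedModule
      M (Algebra.linearMap R R') _ ?_
    rw [hcomap]; exact hP
  have h2 := h h1
  refine ⟨⟨hPp, bot_le⟩, fun Q hQ hQP => ?_⟩
  have hQp : Q.IsPrime := hQ.1
  have hQd : Disjoint (M : Set R) (Q : Set R) := hdisj.mono_right hQP
  have hQcomap : (Q.map (algebraMap R R')).comap (algebraMap R R') = Q :=
    IsLocalization.under_map_of_isPrime_disjoint M R' hQp hQd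
  have h3 := h2.2 ⟨IsLocalization.isPrime_of_isPrime_disjoint M R' Q hQp hQd, bot_le⟩
    (Ideal.map_mono hQP)
  have h4 := Ideal.comap_mono (f := algebraMap R R') h3
  rwa [hcomap, hQcomap] at h4

theorem associatedPrimes_subset_of_ringEquiv {R S : Type*} [CommRing R] [CommRing S] (e : R ≃+* S)
    (h : associatedPrimes S S ⊆ minimalPrimes S) : associatedPrimes R R ⊆ minimalPrimes R := by
  let _ : Algebra R S := e.toRingHom.toAlgebra
  have : IsLocalization (⊥ : Submonoid R) S :=
    { map_units := fun y => by
        have : (y : R) = 1 := y.2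
        rw [this, map_one]
        exact isUnit_one
      surj := fun z => ⟨(e.symm z, 1), by
        change z * (algebraMap R S) 1 = e (e.symm z)
        rw [map_one, mul_one, RingEquiv.apply_symm_apply]⟩
      exists_of_eq := fun {x y} hxy => ⟨1, by rw [e.injective hxy]⟩ }
  exact subset_minimalPrimes_of_isLocalization (⊥ : Submonoid R) S bot_le h

theorem subset_minimalPrimes_tensor_left {k : Type*} [Field k] (A K B : Type*) [CommRing A]
    [IsDomain A] [Algebra k A] [Field K] [Algebra k K] [Algebra A K] [IsScalarTower k A K]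
    [IsFractionRing A K] [CommRing B] [Algebra k B]
    (h : associatedPrimes (K ⊗[k] B) (K ⊗[k] B) ⊆ minimalPrimes (K ⊗[k] B)) :
    associatedPrimes (A ⊗[k] B) (A ⊗[k] B) ⊆ minimalPrimes (A ⊗[k] B) := by
  let _ : Algebra (A ⊗[k] B) (K ⊗[A] (A ⊗[k] B)) := Algebra.TensorProduct.rightAlgebra
  have h3 : IsLocalization (Algebra.algebraMapSubmonoid (A ⊗[k] B) (nonZeroDivisors A))
      (K ⊗[A] (A ⊗[k] B)) := IsLocalization.tensorRight _ _
  have h4 : Algebra.algebraMapSubmonoid (A ⊗[k] B) (nonZeroDivisors A) ≤
      nonZeroDivisors (A ⊗[k] B) := by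
    rintro _ ⟨a, ha, rfl⟩
    rw [mem_nonZeroDivisors_iff_right]
    intro x hx
    have h5 : IsSMulRegular (A ⊗[k] B) a := Module.Flat.isSMulRegular_of_nonZeroDivisors ha
    refine h5 ?_
    change a • x = a • (0 : A ⊗[k] B)
    rw [smul_zero, Algebra.smul_def, mul_comm]
    exact hx
  refine subset_minimalPrimes_of_isLocalization _ (K ⊗[A] (A ⊗[k] B)) h4 ?_
  exact associatedPrimes_subset_of_ringEquiv
    (Algebra.TensorProduct.cancelBaseChange k A A K B).toRingEquiv h

/-- The tensor product of two domains over a field has no embedded primes. -/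
theorem associatedPrimes_tensor_domains_subset {k A B : Type u} [Field k] [CommRing A] [IsDomain A]
    [Algebra k A] [CommRing B] [IsDomain B] [Algebra k B] :
    associatedPrimes (A ⊗[k] B) (A ⊗[k] B) ⊆ minimalPrimes (A ⊗[k] B) := by
  refine subset_minimalPrimes_tensor_left A (FractionRing A) B ?_
  refine associatedPrimes_subset_of_ringEquiv
    (Algebra.TensorProduct.comm k (FractionRing A) B).toRingEquiv ?_
  refine subset_minimalPrimes_tensor_left B (FractionRing B) (FractionRing A) ?_
  exact Groth.Agent.S2512.associatedPrimes_tensor_subset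

end K106.AssTensor
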