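import Groth.Agent.FBase.K106.GeomDesc
import Groth.Agent.Fdesc.BcMaps
import Mathlib.AlgebraicGeometry.PullbackCarrier

/-!
# Common points of two extensions of the base field

* `exists_common_point`: if `x'` in `X_K` and `x₁` in `X_L` have the same image in `X` then there are a
  common extension `M` of `K` and `L` and a point of `X_M` above both.
-/

set_option autoImplicit false

universe u

open CategoryTheory CategoryTheory.Limits AlgebraicGeometry

namespace K106.CommonPt

open Groth.Agent.VarietyA.GeomIrr Groth.Agent.Fdesc.BcMaps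

variable {k : Type u} [Field k] {X : Scheme.{u}} (f : X ⟶ Spec (CommRingCat.of k))

theorem exists_common_point (K L : Type u) [Field K] [Algebra k K] [Field L] [Algebra k L]
    (x' : ↥(pullback f (Spec.map (CommRingCat.ofHom (algebraMap k K)))))
    (x₁ : ↥(pullback f (Spec.map (CommRingCat.ofHom (algebraMap k L)))))
    (h : pullback.fst f (Spec.map (CommRingCat.ofHom (algebraMap k K))) x' =
      pullback.fst f (Spec.map (CommRingCat.ofHom (algebraMap k L))) x₁) :
    ∃ (M : Type u) (_ : Field M) (_ : Algebra k M) (_ : Algebra K M) (_ : Algebra L M)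
      (_ : IsScalarTower k K M) (_ : IsScalarTower k L M)
      (z : ↥(pullback f (Spec.map (CommRingCat.ofHom (algebraMap k M))))),
      bcMap k K M f z = x' ∧ bcMap k L M f z = x₁ := by
  let pK := pullback.fst f (Spec.map (CommRingCat.ofHom (algebraMap k K)))
  let pL := pullback.fst f (Spec.map (CommRingCat.ofHom (algebraMap k L)))
  let sK := pullback.snd f (Spec.map (CommRingCat.ofHom (algebraMap k K)))
  let sL := pullback.snd f (Spec.map (CommRingCat.ofHom (algebraMap k L)))
  have hK : pK ≫ f = sK ≫ Spec.map (CommRingCat.ofHom (algebraMap k K)) := pullback.condition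
  have hL : pL ≫ f = sL ≫ Spec.map (CommRingCat.ofHom (algebraMap k L)) := pullback.condition
  obtain ⟨w, hw1, hw2⟩ := Scheme.Pullback.exists_preimage_pullback (f := pK) (g := pL) x' x₁ h
  let W := pullback pK pL
  let M := W.residueField w
  let m : Spec M ⟶ W := W.fromSpecResidueField w
  obtain ⟨φ, hφ⟩ := Spec.map_surjective (m ≫ pullback.fst pK pL ≫ sK)
  obtain ⟨ψ, hψ⟩ := Spec.map_surjective (m ≫ pullback.snd pK pL ≫ sL)
  let _ : Algebra K M := φ.hom.toAlgebra
  let _ : Algebra L M := ψ.hom.toAlgebra
  let _ : Algebra k M := (φ.hom.comp (algebraMap k K)).toAlgebra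
  have hcomp : φ.hom.comp (algebraMap k K) = ψ.hom.comp (algebraMap k L) := by
    have h1 : Spec.map (CommRingCat.ofHom (algebraMap k K) ≫ φ) =
        Spec.map (CommRingCat.ofHom (algebraMap k L) ≫ ψ) := by
      rw [Spec.map_comp, Spec.map_comp, hφ, hψ]
      simp only [Category.assoc]
      rw [← hK, ← hL, pullback.condition_assoc]
    exact congrArg CommRingCat.Hom.hom (Spec.map_injective h1)
  have hs1 : IsScalarTower k K M := IsScalarTower.of_algebraMap_eq fun x => rfl
  have hs2 : IsScalarTower k L M :=
    IsScalarTower.of_algebraMap_eq fun x => RingHom.congr_fun hcomp x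
  have hkM : Spec.map (CommRingCat.ofHom (algebraMap k M)) =
      m ≫ pullback.fst pK pL ≫ sK ≫ Spec.map (CommRingCat.ofHom (algebraMap k K)) := by
    have : CommRingCat.ofHom (algebraMap k M) = CommRingCat.ofHom (algebraMap k K) ≫ φ := rfl
    rw [this, Spec.map_comp, hφ]
    simp only [Category.assoc]
  let t : Spec (CommRingCat.of M) ⟶
      pullback f (Spec.map (CommRingCat.ofHom (algebraMap k M))) :=
    pullback.lift (m ≫ pullback.fst pK pL ≫ pK) (𝟙 _) (by
      rw [Category.id_comp, hkM]
      simp only [Category.assoc]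
      rw [hK])
  let c : Spec (CommRingCat.of M) := IsLocalRing.closedPoint M
  have hc : m c = w := W.fromSpecResidueField_apply w c
  have ht1 : t ≫ bcMap k K M f = m ≫ pullback.fst pK pL := by
    apply pullback.hom_ext
    · rw [Category.assoc, bcMap_fst, pullback.lift_fst, Category.assoc]
    · rw [Category.assoc, bcMap_snd, pullback.lift_snd_assoc, Category.id_comp, Category.assoc]
      exact hφ
  have ht2 : t ≫ bcMap k L M f = m ≫ pullback.snd pK pL := by
    apply pullback.hom_ext
    · rw [Category.assoc, bcMap_fst, pullback.lift_fst, Category.assoc, pullback.condition]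
    · rw [Category.assoc, bcMap_snd, pullback.lift_snd_assoc, Category.id_comp, Category.assoc]
      exact hψ
  refine ⟨M, inferInstance, inferInstance, inferInstance, inferInstance, hs1, hs2, t c, ?_, ?_⟩
  · rw [← Scheme.Hom.comp_apply, ht1, Scheme.Hom.comp_apply, hc]
    exact hw1
  · rw [← Scheme.Hom.comp_apply, ht2, Scheme.Hom.comp_apply, hc]
    exact hw2

end K106.CommonPt
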