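import Groth.Agent.FBase.K106.Basic
import Groth.Agent.Fdesc.GenTop
import Mathlib.SetTheory.Cardinal.Basic

/-!
# Irreducible and connected components under extension of the base field

* `card_irreducibleComponents_le_of_generalizingMap`, `card_connectedComponents_le_of_surjective`
* `card_irreducibleComponents_le`, `card_connectedComponents_le`.
-/

set_option autoImplicit false

universe u v

open CategoryTheory CategoryTheory.Limits AlgebraicGeometry

namespace K106.Comps

section Top

variable {X Y : Type u} [TopologicalSpace X] [TopologicalSpace Y]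

/-- Under a surjective generalizing map of sober spaces the generic points map onto the generic
points. -/
theorem exists_mem_genericPoints_map_eq [QuasiSober X] [T0Space X] [QuasiSober Y] [T0Space Y]
    {f : X → Y} (hc : Continuous f) (hs : Function.Surjective f) {y : Y}
    (hy : y ∈ genericPoints Y) : ∃ x ∈ genericPoints X, f x = y := by
  obtain ⟨z, rfl⟩ := hs y
  obtain ⟨g, hg, hgz⟩ := Groth.Agent.Fdesc.GenTop.exists_genericPoints_specializes z
  exact ⟨g, hg, Groth.Agent.Fdesc.GenTop.mem_genericPoints_iff.1 hy _ (hgz.map hc)⟩

theorem card_irreducibleComponents_le_of_surjective [QuasiSober X] [T0Space X] [QuasiSober Y]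
    [T0Space Y] {f : X → Y} (hc : Continuous f) (hs : Function.Surjective f)
    (hf : GeneralizingMap f) :
    Cardinal.mk (irreducibleComponents Y) ≤ Cardinal.mk (irreducibleComponents X) := by
  let F : irreducibleComponents X → irreducibleComponents Y := fun C =>
    ⟨closure {f C.2.1.genericPoint}, by
      have h1 : C.2.1.genericPoint ∈ genericPoints X := by
        change closure {C.2.1.genericPoint} ∈ irreducibleComponents X
        rw [C.2.1.closure_genericPoint (isClosed_of_mem_irreducibleComponents _ C.2)]
        exact C.2
      exact Groth.Agent.Fdesc.GenTop.map_mem_genericPoints hf h1⟩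
  refine Cardinal.mk_le_of_surjective (f := F) fun D => ?_
  obtain ⟨g, hg, hgD⟩ := Groth.Agent.Fdesc.GenTop.exists_genericPoints_of_component D.2
  obtain ⟨x, hx, rfl⟩ := exists_mem_genericPoints_map_eq hc hs hg
  refine ⟨⟨closure {x}, hx⟩, ?_⟩
  apply Subtype.ext
  change closure {f (IsIrreducible.genericPoint _)} = (D : Set Y)
  rw [← hgD]
  congr 3
  apply IsGenericPoint.eq (S := closure {x})
  · exact IsIrreducible.isGenericPoint_genericPoint _ isClosed_closure
  · exact isGenericPoint_closure

theorem card_connectedComponents_le_of_surjective {f : X → Y} (hc : Continuous f)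
    (hs : Function.Surjective f) :
    Cardinal.mk (ConnectedComponents Y) ≤ Cardinal.mk (ConnectedComponents X) := by
  refine Cardinal.mk_le_of_surjective (f := hc.connectedComponentsMap) fun c => ?_
  obtain ⟨y, rfl⟩ := ConnectedComponents.surjective_coe c
  obtain ⟨x, rfl⟩ := hs y
  exact ⟨x, rfl⟩

end Top

section

variable {k : Type u} [Field k] {X : Scheme.{u}} (f : X ⟶ Spec (CommRingCat.of k))

theorem card_irreducibleComponents_le (K Ω : Type u) [Field K] [Algebra k K] [Field Ω]
    [Algebra k Ω] [IsAlgClosed Ω] :
    Cardinal.mk (irreducibleComponents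
      ↥(pullback f (Spec.map (CommRingCat.ofHom (algebraMap k K))))) ≤
    Cardinal.mk (irreducibleComponents
      ↥(pullback f (Spec.map (CommRingCat.ofHom (algebraMap k Ω))))) := by
  obtain ⟨M, _, _, _, _, _, _⟩ := Groth.Agent.Fdesc.BaseField.exists_common_field k K Ω
  let a := Groth.Agent.VarietyA.GeomIrr.bcMap k K M f
  have ha : Flat a := by
    dsimp only [a]; unfold Groth.Agent.VarietyA.GeomIrr.bcMap; infer_instance
  let e := Groth.Agent.VarietyA.GeomIrr.bcIso k Ω M f
  let q := pullback.fst (pullback.snd f (Spec.map (CommRingCat.ofHom (algebraMap k Ω))))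
      (Spec.map (CommRingCat.ofHom (algebraMap Ω M)))
  have h0 := Groth.Agent.Fdesc.GeomAlgClosed.geometricallyIrreducible_spec Ω M
  have h1 : GeometricallyIrreducible q := inferInstance
  refine (card_irreducibleComponents_le_of_surjective a.continuous a.surjective
    (Flat.generalizingMap a)).trans ?_
  refine (card_irreducibleComponents_le_of_surjective e.hom.continuous e.hom.surjective
    (Flat.generalizingMap e.hom)).trans ?_
  exact (Cardinal.mk_congr (q.irreducibleComponentsEquiv q.isOpenMap)).le

theorem card_connectedComponents_le (K Ω : Type u) [Field K] [Algebra k K] [Field Ω]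
    [Algebra k Ω] [IsAlgClosed Ω] :
    Cardinal.mk (ConnectedComponents
      ↥(pullback f (Spec.map (CommRingCat.ofHom (algebraMap k K))))) ≤
    Cardinal.mk (ConnectedComponents
      ↥(pullback f (Spec.map (CommRingCat.ofHom (algebraMap k Ω))))) := by
  obtain ⟨M, _, _, _, _, _, _⟩ := Groth.Agent.Fdesc.BaseField.exists_common_field k K Ω
  let a := Groth.Agent.VarietyA.GeomIrr.bcMap k K M f
  let e := Groth.Agent.VarietyA.GeomIrr.bcIso k Ω M f
  let q := pullback.fst (pullback.snd f (Spec.map (CommRingCat.ofHom (algebraMap k Ω))))
      (Spec.map (CommRingCat.ofHom (algebraMap Ω M)))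
  have h0 := Groth.Agent.Fdesc.GeomAlgClosed.geometricallyConnected_spec Ω M
  have h1 : GeometricallyConnected q := inferInstance
  refine (card_connectedComponents_le_of_surjective a.continuous a.surjective).trans ?_
  refine (card_connectedComponents_le_of_surjective e.hom.continuous e.hom.surjective).trans ?_
  exact (Cardinal.mk_congr (q.connectedComponentsHomeomorph q.isOpenMap).toEquiv).le

end

end K106.Comps
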