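import Groth.Agent.S2546
import Groth.Agent.Fdesc.StructMod
import Groth.Agent.Fdesc.GenericPts

/-!
# Reduced modules

* `isReducedMod_congr`, `isReducedMod_tensor_structureModule`
* `isReducedMod_structureModule_iff`: the structure sheaf is a reduced module iff the scheme is reduced.
-/

set_option autoImplicit false
set_option linter.style.haveILetI false

universe u

open CategoryTheory CategoryTheory.Limits AlgebraicGeometry TensorProduct
open Groth.Agent.Fdesc Groth.Agent.Fdesc.AssFlat Groth.Agent.Fdesc.PullbackStalk

namespace K106.RedMod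

theorem mem_Ass_congr {X : Scheme.{u}} {M N : X.Modules}
    (e : ∀ x, Nonempty (M.presheaf.stalk x ≃ₗ[X.presheaf.stalk x] N.presheaf.stalk x)) (x : X) :
    x ∈ AssSch.Ass M ↔ x ∈ AssSch.Ass N := by
  obtain ⟨e'⟩ := e x
  exact e'.isAssociatedPrime_iff

theorem isReducedMod_congr {X : Scheme.{u}} {M N : X.Modules}
    (e : ∀ x, Nonempty (M.presheaf.stalk x ≃ₗ[X.presheaf.stalk x] N.presheaf.stalk x)) :
    AssSch.IsReducedMod M ↔ AssSch.IsReducedMod N := by
  unfold AssSch.IsReducedMod AssSch.NoEmbedded
  simp only [mem_Ass_congr e]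
  have : ∀ x, Module.length (X.presheaf.stalk x) (M.presheaf.stalk x) =
      Module.length (X.presheaf.stalk x) (N.presheaf.stalk x) := fun x => by
    obtain ⟨e'⟩ := e x
    exact e'.length_eq
  simp only [this]

/-- The stalks of `M ⊗ O` are those of `M`. -/
noncomputable def tensorStructEquiv {X : Scheme.{u}} (M : X.Modules) (x : X) :
    (CohB1.tensorMod M (Coh.structureModule X)).presheaf.stalk x ≃ₗ[X.presheaf.stalk x]
      M.presheaf.stalk x :=
  (tensorModStalk M (Coh.structureModule X) x).trans
    ((TensorProduct.congr (LinearEquiv.refl _ _) (StructMod.stalkEquiv x).symm).trans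
      (TensorProduct.rid _ _))

theorem isReducedMod_tensor_structureModule {X : Scheme.{u}} (M : X.Modules) :
    AssSch.IsReducedMod (CohB1.tensorMod M (Coh.structureModule X)) ↔ AssSch.IsReducedMod M :=
  isReducedMod_congr fun x => ⟨tensorStructEquiv M x⟩

/-- The stalks of `f^* O_Y` are those of `O_X`. -/
theorem nonempty_pullbackStructEquiv {X Y : Scheme.{u}} (f : X ⟶ Y) (x : X) :
    Nonempty (((Scheme.Modules.pullback f).obj (Coh.structureModule Y)).presheaf.stalk x
      ≃ₗ[X.presheaf.stalk x] (Coh.structureModule X).presheaf.stalk x) := by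
  letI := stalkAlg f x
  exact ⟨(stalkPullbackEquiv f (Coh.structureModule Y) x).symm.trans
    ((AlgebraTensorModule.congr (LinearEquiv.refl (X.presheaf.stalk x) (X.presheaf.stalk x))
      (StructMod.stalkEquiv (f.base x)).symm).trans
      ((AlgebraTensorModule.rid (Y.presheaf.stalk (f.base x)) (X.presheaf.stalk x)
        (X.presheaf.stalk x)).trans (StructMod.stalkEquiv x)))⟩

theorem isReducedMod_pullback_structureModule {X Y : Scheme.{u}} (f : X ⟶ Y) :
    AssSch.IsReducedMod ((Scheme.Modules.pullback f).obj (Coh.structureModule Y)) ↔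
      AssSch.IsReducedMod (Coh.structureModule X) :=
  isReducedMod_congr (nonempty_pullbackStructEquiv f)

section algebra

open IsLocalRing

/-- A reduced local ring whose maximal ideal is associated is a field. -/
theorem isField_of_mem_associatedPrimes {R : Type*} [CommRing R] [IsLocalRing R]
    [_root_.IsReduced R] (h : maximalIdeal R ∈ associatedPrimes R R) : IsField R := by
  rw [IsLocalRing.isField_iff_maximalIdeal_eq]
  obtain ⟨hp, x, hx⟩ := h
  have hann : ∀ r ∈ maximalIdeal R, r * x = 0 := by
    intro r hr
    rw [hx] at hr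
    obtain ⟨n, hn⟩ := hr
    rw [Submodule.mem_colon_singleton, Submodule.mem_bot, smul_eq_mul] at hn
    have : IsNilpotent (r * x) := by
      refine ⟨n + 1, ?_⟩
      rw [mul_pow, pow_succ, pow_succ]
      calc r ^ n * r * (x ^ n * x) = (r ^ n * x) * (r * x ^ n) := by ring
        _ = 0 := by rw [hn, zero_mul]
    exact this.eq_zero
  have hx0 : x ≠ 0 := by
    rintro rfl
    apply hp.ne_top
    rw [hx, Ideal.radical_eq_top, Ideal.eq_top_iff_one, Submodule.mem_colon_singleton]
    simp
  have hxu : IsUnit x := by
    by_contra hnu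
    have h1 : x ∈ maximalIdeal R := (mem_maximalIdeal x).2 hnu
    have h2 := hann x h1
    have h3 : IsNilpotent x := ⟨2, by rw [pow_two]; exact h2⟩
    exact hx0 h3.eq_zero
  rw [eq_bot_iff]
  intro r hr
  have h1 := hann r hr
  rw [Ideal.mem_bot]
  exact (hxu.mul_left_eq_zero).1 h1

theorem isField_of_length_eq_one {R : Type*} [CommRing R] (h : Module.length R R = 1) :
    IsField R := by
  rw [Module.length_eq_one_iff, isSimpleModule_self_iff_isUnit] at h
  obtain ⟨h1, h2⟩ := h
  exact { exists_pair_ne := h1.exists_pair_ne
          mul_comm := mul_comm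
          mul_inv_cancel := fun {a} ha => by
            obtain ⟨u, rfl⟩ := h2 a ha
            exact ⟨↑u⁻¹, u.mul_inv⟩ }

theorem length_eq_one_of_isField {R : Type*} [CommRing R] (h : IsField R) :
    Module.length R R = 1 := by
  rw [Module.length_eq_one_iff, isSimpleModule_self_iff_isUnit]
  refine ⟨⟨h.exists_pair_ne⟩, fun a ha => ?_⟩
  obtain ⟨b, hb⟩ := h.mul_inv_cancel ha
  exact IsUnit.of_mul_eq_one b hb

/-- A Noetherian ring is reduced if its local rings at the associated primes are. -/
theorem isReduced_of_forall_associatedPrimes {R : Type*} [CommRing R] [IsNoetherianRing R]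
    (h : ∀ p ∈ associatedPrimes R R, ∀ [p.IsPrime], _root_.IsReduced (Localization.AtPrime p)) :
    _root_.IsReduced R := by
  refine ⟨fun x hx => ?_⟩
  by_contra hne
  obtain ⟨p, hp, hxp⟩ := exists_le_isAssociatedPrime_of_isNoetherianRing R x hne
  have hpp : p.IsPrime := hp.isPrime
  have h1 := h p hp
  have h2 : IsNilpotent (algebraMap R (Localization.AtPrime p) x) := hx.map _
  have h3 := h2.eq_zero
  rw [IsLocalization.map_eq_zero_iff p.primeCompl] at h3
  obtain ⟨s, hs⟩ := h3
  apply s.2
  apply hxp
  rw [Submodule.mem_colon_singleton, Submodule.mem_bot]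
  exact hs

end algebra

/-- The structure sheaf of a locally Noetherian scheme is a reduced module iff the scheme is
reduced. -/
theorem isReducedMod_structureModule_iff (T : Scheme.{u}) [IsLocallyNoetherian T] :
    AssSch.IsReducedMod (Coh.structureModule T) ↔ IsReduced T := by
  constructor
  · rintro ⟨-, hlen⟩
    refine Groth.Agent.Fdesc.GenericPts.isReduced_of_isReduced_affine fun V hV => ?_
    have hN : IsNoetherianRing Γ(T, V) := IsLocallyNoetherian.component_noetherian ⟨V, hV⟩
    refine isReduced_of_forall_associatedPrimes fun p hp hpp => ?_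
    obtain ⟨x, hx, rfl⟩ := AssPoints.exists_primeIdealOf_eq hV p
    have h1 := (StructMod.mem_Ass_structureModule_iff hV x hx).2 hp
    have h2 := hlen x h1
    rw [← (StructMod.stalkEquiv x).length_eq] at h2
    have h3 := isField_of_length_eq_one h2
    have h4 : _root_.IsReduced (T.presheaf.stalk x) := by
      let _ := h3.toField
      infer_instance
    let _ : Algebra Γ(T, V) (T.presheaf.stalk x) := (T.presheaf.germ V x hx).hom.toAlgebra
    have h5 := hV.isLocalization_stalk ⟨x, hx⟩
    exact isReduced_of_injective _
      (IsLocalization.algEquiv (hV.primeIdealOf ⟨x, hx⟩).asIdeal.primeCompl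
        (Localization.AtPrime (hV.primeIdealOf ⟨x, hx⟩).asIdeal) (T.presheaf.stalk x)).injective
  · intro hT
    have key : ∀ x ∈ AssSch.Ass (Coh.structureModule T), IsField (T.presheaf.stalk x) := by
      intro x hx
      rw [StructMod.mem_Ass_structureModule_iff_stalk] at hx
      exact isField_of_mem_associatedPrimes hx
    refine ⟨fun x hx y _ hyx => ?_, fun x hx => ?_⟩
    · have h1 : y ∈ Set.range (T.fromSpecStalk x) := by
        rw [Scheme.range_fromSpecStalk]; exact hyx
      obtain ⟨q, rfl⟩ := h1
      have h2 := key x hx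
      let _ := h2.toField
      have h3 : q = IsLocalRing.closedPoint (T.presheaf.stalk x) := by
        have : Subsingleton (PrimeSpectrum (T.presheaf.stalk x)) := inferInstance
        exact this.elim _ _
      rw [h3, Scheme.fromSpecStalk_closedPoint]
    · rw [← (StructMod.stalkEquiv x).length_eq]
      exact length_eq_one_of_isField (key x hx)

end K106.RedMod
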