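import Groth.Agent.S2513
import Groth.Agent.FBase.K106.RedMod
import Groth.Agent.FBase.K106.Basic

/-!
# Fibres of `X_K → X`, and reducedness of `F ⊗ K`
-/

set_option autoImplicit false
set_option linter.style.haveILetI false

universe u

open CategoryTheory CategoryTheory.Limits AlgebraicGeometry TensorProduct
open Groth.Agent.Fdesc Groth.Agent.Fdesc.AssFlat

namespace K106.FiberBc

section

variable {k : Type u} [Field k] {X : Scheme.{u}} (f : X ⟶ Spec (CommRingCat.of k))

/-- The ring map `k → κ(x)` attached to a point of a `k`-scheme. -/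
noncomputable def resHom (x : X) : k →+* X.residueField x :=
  (Spec.preimage (X.fromSpecResidueField x ≫ f)).hom

theorem specMap_resHom (x : X) : Spec.map (CommRingCat.ofHom (resHom f x)) =
    X.fromSpecResidueField x ≫ f := Spec.map_preimage _

variable (K : Type u) [Field K] [Algebra k K]

/-- The fibre of `X_K → X` at `x` is the spectrum of `κ(x) ⊗ K`. -/
noncomputable def fiberIso (x : X) :
    letI := (resHom f x).toAlgebra
    (FBase.bcπ f K).fiber x ≅ Spec (CommRingCat.of (X.residueField x ⊗[k] K)) :=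
  letI := (resHom f x).toAlgebra
  (pullbackSymmetry _ _ : (FBase.bcπ f K).fiber x ≅
      pullback (X.fromSpecResidueField x) (FBase.bcπ f K)) ≪≫
    pullbackRightPullbackFstIso f (Spec.map (CommRingCat.ofHom (algebraMap k K)))
      (X.fromSpecResidueField x) ≪≫
    (pullback.congrHom (specMap_resHom f x).symm rfl) ≪≫ pullbackSpecIso k (X.residueField x) K

theorem isNoetherianRing_tensor [IsLocallyNoetherian (FBase.bc f K)] (x : X) :
    letI := (resHom f x).toAlgebra
    IsNoetherianRing (X.residueField x ⊗[k] K) := by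
  letI := (resHom f x).toAlgebra
  set g := Spec.map (CommRingCat.ofHom (algebraMap k K)) with hg
  haveI : IsLocallyNoetherian ↑(pullback f g) := inferInstanceAs (IsLocallyNoetherian (FBase.bc f K))
  obtain ⟨_, ⟨U : X.Opens, hU, rfl⟩, hxU, -⟩ := X.isBasis_affineOpens.exists_subset_of_mem_open
    (Set.mem_univ x) isOpen_univ
  obtain ⟨φ, hφ⟩ := Spec.map_surjective (hU.fromSpec ≫ f)
  letI : Algebra k Γ(X, U) := φ.hom.toAlgebra
  letI : Algebra Γ(X, U) (X.residueField x) := (X.evaluation U x hxU).hom.toAlgebra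
  have e0 : CommRingCat.ofHom (resHom f x) = φ ≫ X.presheaf.germ U x hxU ≫ X.residue x := by
    apply Spec.map_injective
    rw [specMap_resHom, Spec.map_comp, Spec.map_comp, hφ, Scheme.fromSpecResidueField,
      ← hU.fromSpecStalk_eq_fromSpecStalk hxU, IsAffineOpen.fromSpecStalk]
    simp only [Category.assoc]
  haveI : IsScalarTower k Γ(X, U) (X.residueField x) :=
    IsScalarTower.of_algebraMap_eq' (congrArg CommRingCat.Hom.hom e0)
  -- `Γ(X, U) ⊗ K` is Noetherian
  haveI hN : IsNoetherianRing (Γ(X, U) ⊗[k] K) := by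
    haveI : IsLocallyNoetherian ↑(pullback hU.fromSpec (pullback.fst f g)) :=
      isLocallyNoetherian_of_isOpenImmersion (pullback.snd hU.fromSpec (pullback.fst f g))
    let e1 : pullback hU.fromSpec (pullback.fst f g) ≅ pullback (hU.fromSpec ≫ f) g :=
      pullbackRightPullbackFstIso f g hU.fromSpec
    let e2 : pullback (hU.fromSpec ≫ f) g ≅ pullback (Spec.map φ) g :=
      pullback.congrHom hφ.symm rfl
    let e3 : pullback (Spec.map φ) g ≅ Spec (CommRingCat.of (Γ(X, U) ⊗[k] K)) :=
      pullbackSpecIso k Γ(X, U) K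
    haveI : IsLocallyNoetherian (Spec (CommRingCat.of (Γ(X, U) ⊗[k] K))) :=
      isLocallyNoetherian_of_isOpenImmersion (e1 ≪≫ e2 ≪≫ e3).inv
    exact isLocallyNoetherian_Spec.mp this
  refine Groth.Agent.S2513.isNoetherianRing_tensor (R := Γ(X, U)) ?_
  intro l
  obtain ⟨t, rfl⟩ := X.residue_surjective x l
  letI : Algebra Γ(X, U) (X.presheaf.stalk x) := (X.presheaf.germ U x hxU).hom.toAlgebra
  haveI := hU.isLocalization_stalk ⟨x, hxU⟩
  obtain ⟨⟨r, s⟩, hrs⟩ := IsLocalization.surj (hU.primeIdealOf ⟨x, hxU⟩).asIdeal.primeCompl t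
  have hrs' : t * X.presheaf.germ U x hxU s.1 = X.presheaf.germ U x hxU r := hrs
  have hs : IsUnit (X.presheaf.germ U x hxU s.1) :=
    IsLocalization.map_units (X.presheaf.stalk x) s
  refine ⟨r, s.1, ?_, ?_⟩
  · exact (hs.map (X.residue x).hom).ne_zero
  · change X.residue x (X.presheaf.germ U x hxU s.1) * X.residue x t =
      X.residue x (X.presheaf.germ U x hxU r)
    rw [← hrs', map_mul, mul_comm]

theorem isLocallyNoetherian_fiber [IsLocallyNoetherian (FBase.bc f K)] (x : X) :
    IsLocallyNoetherian ((FBase.bcπ f K).fiber x) := by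
  letI := (resHom f x).toAlgebra
  haveI := isNoetherianRing_tensor f K x
  exact isLocallyNoetherian_of_isOpenImmersion (fiberIso f K x).hom

theorem isReduced_fiber_iff (x : X) :
    letI := (resHom f x).toAlgebra
    IsReduced ((FBase.bcπ f K).fiber x) ↔ _root_.IsReduced (X.residueField x ⊗[k] K) := by
  letI := (resHom f x).toAlgebra
  constructor
  · intro h
    haveI : IsReduced (Spec (CommRingCat.of (X.residueField x ⊗[k] K))) :=
      isReduced_of_isOpenImmersion (fiberIso f K x).inv
    have h1 : _root_.IsReduced Γ(Spec (CommRingCat.of (X.residueField x ⊗[k] K)), ⊤) :=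
      inferInstance
    exact isReduced_of_injective
      (Scheme.ΓSpecIso (CommRingCat.of (X.residueField x ⊗[k] K))).inv.hom
      (Scheme.ΓSpecIso
        (CommRingCat.of (X.residueField x ⊗[k] K))).symm.commRingCatIsoToRingEquiv.injective
  · intro h
    haveI : _root_.IsReduced (CommRingCat.of (X.residueField x ⊗[k] K)) := h
    exact isReduced_of_isOpenImmersion (fiberIso f K x).hom

/-- `F ⊗ K` is a reduced module iff every associated point `y` of `F` is maximal, the stalk `F_y`
has length one and `κ(y) ⊗ K` is reduced. -/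
theorem isReducedMod_bc_iff [IsLocallyNoetherian X] [IsLocallyNoetherian (FBase.bc f K)]
    (F : X.Modules) (hF : Coh.IsCoh F) :
    AssSch.IsReducedMod ((Scheme.Modules.pullback (FBase.bcπ f K)).obj F) ↔
      ∀ y ∈ AssSch.Ass F, (∀ y' ∈ AssSch.Ass F, y' ⤳ y → y' = y) ∧
        Module.length (X.presheaf.stalk y) (F.presheaf.stalk y) = 1 ∧
        (letI := (resHom f y).toAlgebra
         _root_.IsReduced (X.residueField y ⊗[k] K)) := by
  haveI : Surjective (Spec.map (CommRingCat.ofHom (algebraMap k K))) := by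
    refine ⟨fun y => ⟨IsLocalRing.closedPoint K, ?_⟩⟩
    haveI : Subsingleton (Spec (CommRingCat.of k)) :=
      inferInstanceAs (Subsingleton (PrimeSpectrum k))
    exact Subsingleton.elim _ _
  haveI : Flat (FBase.bcπ f K) := inferInstanceAs (Flat (pullback.fst f _))
  haveI : Surjective (FBase.bcπ f K) := inferInstanceAs (Surjective (pullback.fst f _))
  rw [← RedMod.isReducedMod_tensor_structureModule,
    Groth.Agent.S2546.result (FBase.bcπ f K) F hF (Coh.structureModule (FBase.bc f K))
      (StructMod.isCoh_structureModule _)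
      (Groth.Agent.S2513.isFlatOver_structureModule (FBase.bcπ f K))]
  have key : ∀ y : X, AssSch.IsReducedMod ((Scheme.Modules.pullback
      ((FBase.bcπ f K).fiberι y)).obj (Coh.structureModule (FBase.bc f K))) ↔
      (letI := (resHom f y).toAlgebra
       _root_.IsReduced (X.residueField y ⊗[k] K)) := by
    intro y
    haveI := isLocallyNoetherian_fiber f K y
    rw [RedMod.isReducedMod_pullback_structureModule, RedMod.isReducedMod_structureModule_iff,
      isReduced_fiber_iff]
  constructor
  · intro h y hy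
    obtain ⟨z, hz⟩ := (FBase.bcπ f K).surjective y
    obtain ⟨h1, h2, h3⟩ := h y ⟨hy, z, (Groth.Agent.S2545.mem_support_iff _ _).mpr
      (Groth.Agent.S2513.nontrivial_stalk z), hz⟩
    exact ⟨h1, h2, (key y).1 h3⟩
  · rintro h y ⟨hy, -⟩
    obtain ⟨h1, h2, h3⟩ := h y hy
    exact ⟨h1, h2, (key y).2 h3⟩

end

end K106.FiberBc
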