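import Groth.Agent.FBase.K106.Pieces
import Groth.Agent.Fdesc.ConnCount

/-!
# Finite separable extensions making the components geometrically connected / irreducible
-/

set_option autoImplicit false

universe u

open CategoryTheory CategoryTheory.Limits AlgebraicGeometry

namespace K106.GeomComp

open K106.Pieces

variable {k : Type u} [Field k] {X : Scheme.{u}} (f : X ⟶ Spec (CommRingCat.of k))

/-- A nonempty clopen subset of `X_L` meets the fibre over a given point of the connected component of
the image of one of its points. -/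
theorem exists_mem_of_clopen (L : Type u) [Field L] [Algebra k L]
    (U : Set ↥(pullback f (Spec.map (CommRingCat.ofHom (algebraMap k L))))) (hU : IsClopen U)
    (u : ↥(pullback f (Spec.map (CommRingCat.ofHom (algebraMap k L))))) (hu : u ∈ U) (x : X)
    (hx : x ∈ connectedComponent
      (pullback.fst f (Spec.map (CommRingCat.ofHom (algebraMap k L))) u)) :
    ∃ w ∈ U, pullback.fst f (Spec.map (CommRingCat.ofHom (algebraMap k L))) w = x := by
  let i := Spec.map (CommRingCat.ofHom (algebraMap k L))
  obtain ⟨W, j, hj, -, hjC⟩ := K106.ConnPre.exists_reduced_closed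
    (connectedComponent (pullback.fst f i u)) isClosed_connectedComponent
  have hW : ConnectedSpace W := K106.ConnPre.connectedSpace_of_range j
    (by rw [hjC]; exact isConnected_connectedComponent)
  let G := K106.Basic.bcHom j f i
  have hrange : Set.range G = pullback.fst f i ⁻¹' connectedComponent (pullback.fst f i u) := by
    rw [K106.Basic.range_bcHom, hjC]
  have hne : (G ⁻¹' U).Nonempty := by
    have h1 : u ∈ Set.range G := by rw [hrange]; exact mem_connectedComponent
    obtain ⟨u', rfl⟩ := h1
    exact ⟨u', hu⟩
  have h2 := Groth.Agent.Fdesc.GeomConn.image_eq_univ (j ≫ f) L (G ⁻¹' U)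
    (hU.preimage G.continuous) hne
  have h3 : x ∈ Set.range j := by rw [hjC]; exact hx
  obtain ⟨y, rfl⟩ := h3
  have h4 : y ∈ pullback.fst (j ≫ f) i '' (G ⁻¹' U) := by rw [h2]; trivial
  obtain ⟨v, hv, hvy⟩ := h4
  refine ⟨G v, hv, ?_⟩
  rw [← Scheme.Hom.comp_apply, K106.Basic.bcHom_fst, Scheme.Hom.comp_apply, hvy]

theorem exists_connected [Finite (ConnectedComponents ↥X)]
    (hx : ∀ c : ConnectedComponents ↥X, ∃ x : X, ConnectedComponents.mk x = c ∧
      FBase.ResidueFieldProp f x (fun K _ _ => FiniteDimensional k (separableClosure k K))) :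
    ∃ (L : Type u) (_ : Field L) (_ : Algebra k L), FiniteDimensional k L ∧
      Algebra.IsSeparable k L ∧
      ∀ (K : Type u) [Field K] [Algebra L K]
        (x' : ↥(pullback f (Spec.map (CommRingCat.ofHom (algebraMap k L))))),
        _root_.IsConnected (⇑(pullback.fst
          (pullback.snd f (Spec.map (CommRingCat.ofHom (algebraMap k L))))
          (Spec.map (CommRingCat.ofHom (algebraMap L K)))) ⁻¹' connectedComponent x') := by
  choose x hxc φ hφ hfin using hx
  let F : ConnectedComponents ↥X → Type u := fun c => X.residueField (x c)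
  let _ : ∀ c, Field (F c) := fun c => inferInstanceAs (Field (X.residueField (x c)))
  let _ : ∀ c, Algebra k (F c) := fun c => (φ c).toAlgebra
  let _ : ∀ c, FiniteDimensional k (separableClosure k (F c)) := fun c => hfin c
  obtain ⟨L, _, _, hL1, hL2, hL3⟩ := exists_split_field k (fun c => separableClosure k (F c))
  refine ⟨L, inferInstance, inferInstance, hL1, hL2, fun K _ _ x' => ?_⟩
  let p : ∀ c, Spec (CommRingCat.of (F c)) ⟶ X := fun c => X.fromSpecResidueField (x c)
  have hp : ∀ c, p c ≫ f = Spec.map (CommRingCat.ofHom (algebraMap k (F c))) :=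
    fun c => (hφ c).symm
  let ι := Σ c, (separableClosure k (F c) →ₐ[k] L)
  have hι : Finite ι := by
    have : ∀ c, Finite (separableClosure k (F c) →ₐ[k] L) := fun c => inferInstance
    infer_instance
  let S : ι → Set ↥(pullback f (Spec.map (CommRingCat.ofHom (algebraMap k L)))) :=
    fun i => Set.range (pieceHom f (F i.1) L (p i.1) (hp i.1) i.2)
  have hirr : ∀ i : ι, GeometricallyIrreducible (pieceHom f (F i.1) L (p i.1) (hp i.1) i.2 ≫
      pullback.snd f (Spec.map (CommRingCat.ofHom (algebraMap k L)))) :=
    fun i => geometricallyIrreducible_pieceHom f (F i.1) L (p i.1) (hp i.1) i.2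
  have hS : ∀ i, _root_.IsConnected (S i) := by
    intro i
    have h1 := Groth.Agent.Fdesc.FibreDecomp.isIrreducible_range_piece k (F i.1) L i.2
    have h2 : S i = ptHom f (F i.1) L (p i.1) (hp i.1) ''
        Set.range (Groth.Agent.Fdesc.FibreDecomp.piece k (F i.1) L i.2) := by
      rw [← Set.range_comp]
      rfl
    rw [h2]
    exact h1.isConnected.image _
      (ptHom f (F i.1) L (p i.1) (hp i.1)).continuous.continuousOn
  have hU : ∀ U : Set ↥(pullback f (Spec.map (CommRingCat.ofHom (algebraMap k L)))),
      IsClopen U → U.Nonempty → ∃ i, (U ∩ S i).Nonempty := by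
    rintro U hU ⟨u, hu⟩
    let c : ConnectedComponents ↥X := ConnectedComponents.mk
      (pullback.fst f (Spec.map (CommRingCat.ofHom (algebraMap k L))) u)
    obtain ⟨w, hwU, hw⟩ := exists_mem_of_clopen f L U hU u hu (x c) (by
      have h1 := hxc c
      rw [ConnectedComponents.coe_eq_coe] at h1
      rw [← h1]
      exact mem_connectedComponent)
    obtain ⟨σ, hσ⟩ := exists_mem_range_pieceHom f (F c) L (p c) (hp c) (hL3 c) w (by
      rw [hw]
      exact ⟨IsLocalRing.closedPoint _, Scheme.fromSpecResidueField_apply _ _⟩)
    exact ⟨⟨c, σ⟩, w, hwU, hσ⟩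
  obtain ⟨i, hi⟩ := Groth.Agent.Fdesc.ConnCount.exists_mem_connectedComponent S hS hU x'
  refine K106.ConnPre.isConnected_preimage_of_subset _ K (A := S i) isClosed_connectedComponent
    isConnected_connectedComponent ?_ ?_
  · intro y hy
    rw [← hi y hy]
    exact mem_connectedComponent
  · have := hirr i
    exact (isIrreducible_preimage_range (pieceHom f (F i.1) L (p i.1) (hp i.1) i.2)
      (pullback.snd f (Spec.map (CommRingCat.ofHom (algebraMap k L)))) K).isConnected

theorem exists_irreducible [Finite ↥(irreducibleComponents ↥X)]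
    (hx : ∀ (Z : Set ↥X) (hZ : Z ∈ irreducibleComponents ↥X),
      FBase.ResidueFieldProp f hZ.1.genericPoint
        (fun K _ _ => FiniteDimensional k (separableClosure k K))) :
    ∃ (L : Type u) (_ : Field L) (_ : Algebra k L), FiniteDimensional k L ∧
      Algebra.IsSeparable k L ∧
      ∀ (K : Type u) [Field K] [Algebra L K]
        (Z' : Set ↥(pullback f (Spec.map (CommRingCat.ofHom (algebraMap k L))))),
        Z' ∈ irreducibleComponents ↥(pullback f (Spec.map (CommRingCat.ofHom (algebraMap k L)))) →
        IsIrreducible (⇑(pullback.fst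
          (pullback.snd f (Spec.map (CommRingCat.ofHom (algebraMap k L))))
          (Spec.map (CommRingCat.ofHom (algebraMap L K)))) ⁻¹' Z') := by
  have hx' : ∀ c : irreducibleComponents X, FBase.ResidueFieldProp f c.2.1.genericPoint
        (fun K _ _ => FiniteDimensional k (separableClosure k K)) := fun c => hx c.1 c.2
  choose φ hφ hfin using hx'
  let F : irreducibleComponents X → Type u := fun c => X.residueField (c.2.1.genericPoint)
  let _ : ∀ c, Field (F c) := fun c => inferInstanceAs (Field (X.residueField _))
  let _ : ∀ c, Algebra k (F c) := fun c => (φ c).toAlgebra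
  let _ : ∀ c, FiniteDimensional k (separableClosure k (F c)) := fun c => hfin c
  obtain ⟨L, _, _, hL1, hL2, hL3⟩ := exists_split_field k (fun c => separableClosure k (F c))
  refine ⟨L, inferInstance, inferInstance, hL1, hL2, fun K _ _ Z' hZ' => ?_⟩
  let p : ∀ c, Spec (CommRingCat.of (F c)) ⟶ X := fun c => X.fromSpecResidueField _
  have hp : ∀ c, p c ≫ f = Spec.map (CommRingCat.ofHom (algebraMap k (F c))) :=
    fun c => (hφ c).symm
  let π := pullback.fst f (Spec.map (CommRingCat.ofHom (algebraMap k L)))
  obtain ⟨z', hz', hzZ'⟩ := Groth.Agent.Fdesc.GenTop.exists_genericPoints_of_component hZ'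
  have hz : π z' ∈ genericPoints X :=
    Groth.Agent.Fdesc.GenTop.map_mem_genericPoints (Flat.generalizingMap π) hz'
  let c : irreducibleComponents X := ⟨closure {π z'}, hz⟩
  have hgen : c.2.1.genericPoint = π z' := by
    apply IsGenericPoint.eq (S := closure {π z'})
    · exact IsIrreducible.isGenericPoint_genericPoint _ isClosed_closure
    · exact isGenericPoint_closure
  obtain ⟨σ, hσ⟩ := exists_mem_range_pieceHom f (F c) L (p c) (hp c) (hL3 c) z' (by
    change π z' ∈ _
    rw [← hgen]
    exact ⟨IsLocalRing.closedPoint _, Scheme.fromSpecResidueField_apply _ _⟩)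
  have hirr := geometricallyIrreducible_pieceHom f (F c) L (p c) (hp c) σ
  have hrirr : IsIrreducible (Set.range (pieceHom f (F c) L (p c) (hp c) σ)) := by
    have h1 := Groth.Agent.Fdesc.FibreDecomp.isIrreducible_range_piece k (F c) L σ
    have h2 : Set.range (pieceHom f (F c) L (p c) (hp c) σ) = ptHom f (F c) L (p c) (hp c) ''
        Set.range (Groth.Agent.Fdesc.FibreDecomp.piece k (F c) L σ) := by
      rw [← Set.range_comp]
      rfl
    rw [h2]
    exact h1.image _ (ptHom f (F c) L (p c) (hp c)).continuous.continuousOn
  have hcl : closure (Set.range (pieceHom f (F c) L (p c) (hp c) σ)) = Z' := by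
    apply le_antisymm
    · -- maximality
      refine hZ'.2 hrirr.closure ?_
      rw [← hzZ']
      exact closure_mono (Set.singleton_subset_iff.2 hσ)
    · rw [← hzZ']
      exact closure_mono (Set.singleton_subset_iff.2 hσ)
  rw [← hcl]
  exact isIrreducible_preimage_closure_range (pieceHom f (F c) L (p c) (hp c) σ)
    (pullback.snd f (Spec.map (CommRingCat.ofHom (algebraMap k L)))) K

end K106.GeomComp
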