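import Groth.Agent.Fdesc.GeomRed3
import Mathlib.FieldTheory.PurelyInseparable.PerfectClosure
import Mathlib.FieldTheory.IsAlgClosed.AlgebraicClosure

/-!
# Geometric reducedness is tested on finite purely inseparable extensions
-/

set_option autoImplicit false

universe u

open TensorProduct

namespace K106.GeomRedAlg

theorem isReduced_of_forall_finiteDimensional (k : Type u) [Field k] (A : Type u)
    [CommRing A] [Algebra k A] (Ω : Type u) [Field Ω] [Algebra k Ω] [Algebra.IsAlgebraic k Ω]
    (h : ∀ (K' : IntermediateField k Ω) [FiniteDimensional k K'], IsReduced (K' ⊗[k] A)) :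
    IsReduced (Ω ⊗[k] A) := by
  refine ⟨fun x hx => ?_⟩
  obtain ⟨K', hK', y, hy⟩ :=
    Groth.Agent.Fdesc.GeomRed.exists_finiteDimensional_mem_range (K := Ω) x
  have h1 := h K'
  have hinj := Groth.Agent.Fdesc.GeomRed.subTensor_injective (A := A) K'
  have h2 : IsNilpotent y := by
    obtain ⟨n, hn⟩ := hx
    have h4 : ∀ z : K' ⊗[k] A, (Groth.Agent.Fdesc.GeomRed.subTensor K' A).toRingHom z =
      Groth.Agent.Fdesc.GeomRed.subTensor K' A z := fun _ => rfl
    refine ⟨n, hinj ?_⟩
    rw [← h4, ← h4, RingHom.map_zero, RingHom.map_pow]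
    exact (congrArg (· ^ n) hy).trans hn
  have h3 : y = 0 := h2.eq_zero
  rw [← hy, h3]
  exact map_zero _

/-- An algebra over a field which stays reduced after all finite purely inseparable extensions is
geometrically reduced. -/
theorem isGeometricallyReduced_of_forall_purelyInseparable (k : Type u) [Field k] (A : Type u)
    [CommRing A] [Algebra k A]
    (h : ∀ (k' : Type u) [Field k'] [Algebra k k'] [FiniteDimensional k k']
      [IsPurelyInseparable k k'], IsReduced (k' ⊗[k] A)) :
    Algebra.IsGeometricallyReduced k A := by
  let Ω := perfectClosure k (AlgebraicClosure k)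
  have hΩ : IsPurelyInseparable k Ω := inferInstance
  have hΩ' : PerfectField Ω := inferInstance
  have hred : IsReduced (Ω ⊗[k] A) := by
    refine isReduced_of_forall_finiteDimensional k A Ω fun K' _ => ?_
    have hK'' : IsPurelyInseparable k K' := inferInstance
    exact h K'
  exact Groth.Agent.Fdesc.GeomRed.isGeometricallyReduced_of_perfectField_tensor Ω A

end K106.GeomRedAlg
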