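import Groth.Agent.Fdesc.BCChart
import Groth.Agent.Fdesc.GeomRed
import Groth.Agent.FBase.K106.GeomDesc
import Mathlib.AlgebraicGeometry.Geometrically.Reduced

/-!
# Products with geometrically reduced schemes

* `isGeometricallyReduced_of_chart`: affine charts of a geometrically reduced `k`-scheme.
* `isReduced_pullback`: `X ×_k S` is reduced for `X` geometrically reduced and `S` reduced.
-/

set_option autoImplicit false

universe u

open CategoryTheory CategoryTheory.Limits AlgebraicGeometry TensorProduct

namespace K106.GeomRedProd

variable {k : Type u} [Field k] {X : Scheme.{u}} (f : X ⟶ Spec (CommRingCat.of k))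

theorem isGeometricallyReduced_of_chart [hf : GeometricallyReduced f] {A : Type u} [CommRing A]
    [Algebra k A] (j : Spec (CommRingCat.of A) ⟶ X) [IsOpenImmersion j]
    (hj : j ≫ f = Spec.map (CommRingCat.ofHom (algebraMap k A))) :
    Algebra.IsGeometricallyReduced k A := by
  rw [Algebra.isGeometricallyReduced_field_iff]
  have h1 : IsReduced (pullback f (Spec.map (CommRingCat.ofHom
      (algebraMap k (AlgebraicClosure k))))) :=
    pullback_of_geometrically hf.geometrically_isReduced _ _
  have h2 := Groth.Agent.Fdesc.BCChart.isReduced_chart (S := AlgebraicClosure k)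
    (IsPullback.of_hasPullback f (Spec.map (CommRingCat.ofHom
      (algebraMap k (AlgebraicClosure k))))) j hj
  exact isReduced_of_injective (Algebra.TensorProduct.comm k (AlgebraicClosure k) A)
    (Algebra.TensorProduct.comm k (AlgebraicClosure k) A).injective

theorem isReduced_pullback_specMap [hf : GeometricallyReduced f] (R : Type u) [CommRing R]
    [Algebra k R] [_root_.IsReduced R] :
    IsReduced (pullback f (Spec.map (CommRingCat.ofHom (algebraMap k R)))) := by
  refine Groth.Agent.Fdesc.BCChart.isReduced_of_forall_chart
    (IsPullback.of_hasPullback f (Spec.map (CommRingCat.ofHom (algebraMap k R)))) ?_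
  intro A _ _ j _ hj
  have := isGeometricallyReduced_of_chart f j hj
  have h := Groth.Agent.Fdesc.GeomRed.isReduced_tensor_of_isGeometricallyReduced (k := k) A R
  exact isReduced_of_injective (Algebra.TensorProduct.comm k A R)
    (Algebra.TensorProduct.comm k A R).injective

/-- `X ×_k S` is reduced for `X` geometrically reduced and `S` reduced. -/
theorem isReduced_pullback [GeometricallyReduced f] {S : Scheme.{u}}
    (g : S ⟶ Spec (CommRingCat.of k)) [IsReduced S] : IsReduced (pullback f g) := by
  have hi : ∀ i, IsReduced ((Scheme.Pullback.openCoverOfRight S.affineCover f g).X i) := by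
    intro i
    change IsReduced (pullback f (S.affineCover.f i ≫ g))
    have h1 : IsReduced (S.affineCover.X i) := isReduced_of_isOpenImmersion (S.affineCover.f i)
    obtain ⟨R, hR⟩ : ∃ R : CommRingCat.{u}, Spec R = S.affineCover.X i := ⟨_, rfl⟩
    generalize S.affineCover.f i = j at *
    generalize S.affineCover.X i = T at *
    subst hR
    obtain ⟨φ, hφ⟩ := Spec.map_surjective (j ≫ g)
    rw [← hφ]
    algebraize [φ.hom]
    have h3 : _root_.IsReduced R := (affine_isReduced_iff _).mp h1
    exact isReduced_pullback_specMap f R
  exact IsReduced.of_openCover _ (Scheme.Pullback.openCoverOfRight S.affineCover f g)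

/-- The product over `k` of two geometrically reduced schemes is geometrically reduced. -/
theorem geometricallyReduced_pullback [GeometricallyReduced f] {Y : Scheme.{u}}
    (g : Y ⟶ Spec (CommRingCat.of k)) [hg : GeometricallyReduced g] :
    GeometricallyReduced (pullback.fst f g ≫ f) := by
  rw [pullback.condition]
  refine ⟨geometrically_iff_of_commRing_of_isClosedUnderIsomorphisms.mpr fun K _ _ => ?_⟩
  let i := Spec.map (CommRingCat.ofHom (algebraMap k K))
  have h1 : IsReduced (pullback g i) :=
    pullback_of_geometrically hg.geometrically_isReduced _ _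
  have h2 : IsReduced (pullback f (pullback.fst g i ≫ g)) := isReduced_pullback f _
  have h3 := (K106.Basic.bcHom_isPullback (pullback.snd f g) g i).flip.paste_horiz
    (IsPullback.of_hasPullback f g)
  exact isReduced_of_isOpenImmersion h3.isoPullback.hom

end K106.GeomRedProd
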