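import Groth.Agent.FBase.K106.AssTensor
import Groth.Agent.Fdesc.StructMod

/-!
# No embedded points for the product of two integral schemes over a field
-/

set_option autoImplicit false

universe u

open TensorProduct CategoryTheory CategoryTheory.Limits AlgebraicGeometry
open Groth.Agent.Fdesc

namespace K106.NoEmb

/-- `NoEmbedded` of the structure sheaf can be checked on affine charts. -/
theorem noEmbedded_of_forall_chart {Z : Scheme.{u}} [IsLocallyNoetherian Z]
    (h : ∀ z : Z, ∃ (T : Type u) (_ : CommRing T) (j : Spec (CommRingCat.of T) ⟶ Z)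
      (_ : IsOpenImmersion j), z ∈ Set.range j ∧ associatedPrimes T T ⊆ minimalPrimes T) :
    AssSch.NoEmbedded (Coh.structureModule Z) := by
  intro z hz z' hz' hzz'
  obtain ⟨T, _, j, hj, hzj, hT⟩ := h z
  let V : Z.Opens := j.opensRange
  have hV : IsAffineOpen V := isAffineOpen_opensRange j
  have hzV : z ∈ V := hzj
  have hz'V : z' ∈ V := hzz'.mem_open V.2 hzV
  let e1 : T ≃+* Γ(Z, V) :=
    ((Scheme.ΓSpecIso (CommRingCat.of T)).symm ≪≫
      (Scheme.Γ.mapIso (j.isoOpensRange.symm).op) ≪≫ V.topIso).commRingCatIsoToRingEquiv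
  have h' := K106.AssTensor.associatedPrimes_subset_of_ringEquiv e1.symm hT
  rw [StructMod.mem_Ass_structureModule_iff hV z hzV] at hz
  rw [StructMod.mem_Ass_structureModule_iff hV z' hz'V] at hz'
  have h1 := h' hz
  have h2 := (AssPoints.specializes_iff hV z' z hz'V hzV).mp hzz'
  have h3 := h1.2 ⟨hz'.isPrime, bot_le⟩ h2
  exact (((AssPoints.specializes_iff hV z z' hzV hz'V).mpr h3).antisymm hzz').eq

end K106.NoEmb
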