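import Groth.Agent.Fdesc.FibreDecomp
import Groth.Agent.FBase.K106.ConnPre
import Groth.Agent.Fdesc.GenTop
import Mathlib.FieldTheory.Galois.Basic
import Mathlib.FieldTheory.IsSepClosed
import Mathlib.RingTheory.Adjoin.Field

/-!
# Geometrically irreducible pieces of the fibres of `X_L ⟶ X`

* `exists_split_field`: a finite Galois extension splitting finitely many finite separable ones
* `pieceHom`: the morphism `Spec F ×_{k'} Spec L ⟶ X_L` for `σ : k' → L`, `k'` the separable closure of
  `k` in `F`, and a point `Spec F ⟶ X`; it is geometrically irreducible over `L`.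
* `exists_mem_range_pieceHom`: they cover the fibre when `L` splits `k'`.
-/

set_option autoImplicit false

universe u

open CategoryTheory CategoryTheory.Limits AlgebraicGeometry

namespace K106.Pieces

theorem exists_split_field (k : Type u) [Field k] {ι : Type*} [Finite ι] (E : ι → Type u)
    [∀ i, Field (E i)] [∀ i, Algebra k (E i)] [∀ i, FiniteDimensional k (E i)]
    [∀ i, Algebra.IsSeparable k (E i)] :
    ∃ (L : Type u) (_ : Field L) (_ : Algebra k L), FiniteDimensional k L ∧
      Algebra.IsSeparable k L ∧
      ∀ i (t : E i), ((minpoly k t).map (algebraMap k L)).Splits := by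
  let Ω := SeparableClosure k
  let σ : ∀ i, E i →ₐ[k] Ω := fun i => IsSepClosed.lift
  let M : IntermediateField k Ω := ⨆ i, (σ i).fieldRange
  have hfin : ∀ i, FiniteDimensional k (σ i).fieldRange := fun i =>
    LinearEquiv.finiteDimensional (AlgEquiv.ofInjectiveField (σ i)).toLinearEquiv
  have hM : FiniteDimensional k M := IntermediateField.finiteDimensional_iSup_of_finite
  let L := IntermediateField.normalClosure k M Ω
  have hL1 : FiniteDimensional k L := normalClosure.is_finiteDimensional k M Ω
  have hL2 : Normal k L := normalClosure.normal k M Ω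
  have hL3 : Algebra.IsSeparable k L := Algebra.isSeparable_tower_bot_of_isSeparable k L Ω
  refine ⟨L, inferInstance, inferInstance, hL1, hL3, fun i t => ?_⟩
  have h1 : σ i t ∈ L := by
    refine IntermediateField.le_normalClosure M ?_
    exact (le_iSup (fun i => (σ i).fieldRange) i) ⟨t, rfl⟩
  have h2 := hL2.splits ⟨σ i t, h1⟩
  have h3 : minpoly k (⟨σ i t, h1⟩ : L) = minpoly k t := by
    rw [← minpoly.algHom_eq L.val L.val.injective]
    exact minpoly.algHom_eq (σ i) (σ i).injective t
  rwa [h3] at h2

section

variable {k : Type u} [Field k] {X : Scheme.{u}} (f : X ⟶ Spec (CommRingCat.of k))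
  (F L : Type u) [Field F] [Algebra k F] [Field L] [Algebra k L]
  (x : Spec (CommRingCat.of F) ⟶ X)
  (hx : x ≫ f = Spec.map (CommRingCat.ofHom (algebraMap k F)))

/-- The base change to `L` of the point `Spec F ⟶ X`. -/
noncomputable def ptHom (hx : x ≫ f = Spec.map (CommRingCat.ofHom (algebraMap k F))) :
    pullback (Spec.map (CommRingCat.ofHom (algebraMap k F)))
      (Spec.map (CommRingCat.ofHom (algebraMap k L))) ⟶
    pullback f (Spec.map (CommRingCat.ofHom (algebraMap k L))) :=
  pullback.lift (pullback.fst _ _ ≫ x) (pullback.snd _ _)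
    (by rw [Category.assoc, hx]; exact pullback.condition)

theorem ptHom_fst : ptHom f F L x hx ≫ pullback.fst _ _ = pullback.fst _ _ ≫ x :=
  pullback.lift_fst _ _ _

theorem ptHom_snd : ptHom f F L x hx ≫ pullback.snd _ _ = pullback.snd _ _ :=
  pullback.lift_snd _ _ _

theorem exists_mem_range_ptHom (w : ↥(pullback f (Spec.map (CommRingCat.ofHom (algebraMap k L)))))
    (hw : pullback.fst f (Spec.map (CommRingCat.ofHom (algebraMap k L))) w ∈ Set.range x) :
    w ∈ Set.range (ptHom f F L x hx) := by
  have hpb : IsPullback (ptHom f F L x hx) (pullback.fst _ _) (pullback.fst _ _) x := by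
    refine IsPullback.of_right (h₁₂ := pullback.snd f _)
      (v₁₃ := Spec.map (CommRingCat.ofHom (algebraMap k L))) (h₂₂ := f) ?_ ?_ ?_
    · rw [ptHom_snd, hx]
      exact (IsPullback.of_hasPullback _ _).flip
    · exact ptHom_fst f F L x hx
    · exact (IsPullback.of_hasPullback f _).flip
  obtain ⟨p, hp⟩ := hw
  obtain ⟨v, hv, -⟩ := Scheme.exists_preimage_of_isPullback hpb w p hp.symm
  exact ⟨v, hv⟩

/-- The pieces of the fibre over the point `x`, indexed by the embeddings `σ` of the separable closure
of `k` in `F` into `L`. -/
noncomputable def pieceHom (hx : x ≫ f = Spec.map (CommRingCat.ofHom (algebraMap k F)))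
    (σ : separableClosure k F →ₐ[k] L) :
    pullback (Spec.map (CommRingCat.ofHom (algebraMap (separableClosure k F) F)))
      (Spec.map (CommRingCat.ofHom σ.toRingHom)) ⟶
    pullback f (Spec.map (CommRingCat.ofHom (algebraMap k L))) :=
  Groth.Agent.Fdesc.FibreDecomp.piece k F L σ ≫ ptHom f F L x hx

theorem pieceHom_snd (σ : separableClosure k F →ₐ[k] L) :
    pieceHom f F L x hx σ ≫ pullback.snd f (Spec.map (CommRingCat.ofHom (algebraMap k L))) =
      pullback.snd _ _ := by
  rw [pieceHom, Category.assoc, ptHom_snd, Groth.Agent.Fdesc.FibreDecomp.piece,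
    pullback.lift_snd]

theorem pieceHom_fst (σ : separableClosure k F →ₐ[k] L) :
    pieceHom f F L x hx σ ≫ pullback.fst f (Spec.map (CommRingCat.ofHom (algebraMap k L))) =
      pullback.fst _ _ ≫ x := by
  rw [pieceHom, Category.assoc, ptHom_fst, Groth.Agent.Fdesc.FibreDecomp.piece,
    pullback.lift_fst_assoc]

/-- The pieces are geometrically irreducible over `L`. -/
theorem geometricallyIrreducible_pieceHom (σ : separableClosure k F →ₐ[k] L) :
    GeometricallyIrreducible (pieceHom f F L x hx σ ≫
      pullback.snd f (Spec.map (CommRingCat.ofHom (algebraMap k L)))) := by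
  rw [pieceHom_snd]
  have h1 : GeometricallyIrreducible
      (Spec.map (CommRingCat.ofHom (algebraMap (separableClosure k F) F))) :=
    Groth.Agent.Fdesc.GeomConnPoint.geometricallyIrreducible_spec_separableClosure k F
  infer_instance

theorem nonempty_piece (σ : separableClosure k F →ₐ[k] L) :
    Nonempty ↥(pullback (Spec.map (CommRingCat.ofHom (algebraMap (separableClosure k F) F)))
      (Spec.map (CommRingCat.ofHom σ.toRingHom))) := by
  have h1 : GeometricallyIrreducible
      (Spec.map (CommRingCat.ofHom (algebraMap (separableClosure k F) F))) :=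
    Groth.Agent.Fdesc.GeomConnPoint.geometricallyIrreducible_spec_separableClosure k F
  have h2 : IrreducibleSpace
      ↥(pullback (Spec.map (CommRingCat.ofHom (algebraMap (separableClosure k F) F)))
      (Spec.map (CommRingCat.ofHom σ.toRingHom))) :=
    h1.geometrically_irreducibleSpace _ _ _ (IsPullback.of_hasPullback _ _)
  infer_instance

/-- If `L` splits the separable closure of `k` in `F`, the pieces cover the fibre. -/
theorem exists_mem_range_pieceHom
    (hL : ∀ t : separableClosure k F, ((minpoly k t).map (algebraMap k L)).Splits)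
    (w : ↥(pullback f (Spec.map (CommRingCat.ofHom (algebraMap k L)))))
    (hw : pullback.fst f (Spec.map (CommRingCat.ofHom (algebraMap k L))) w ∈ Set.range x) :
    ∃ σ : separableClosure k F →ₐ[k] L, w ∈ Set.range (pieceHom f F L x hx σ) := by
  obtain ⟨v, rfl⟩ := exists_mem_range_ptHom f F L x hx w hw
  have key : ∀ (E : Type u) [Field E] [Algebra k E] (a : F →ₐ[k] E) (b : L →ₐ[k] E)
      (t : separableClosure k F), a t ∈ b.range := by
    intro E _ _ a b t
    have h1 : IsIntegral k t := Algebra.IsIntegral.isIntegral t
    have h2 : IsIntegral k (a t) := (h1.map (separableClosure k F).val).map a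
    refine h2.mem_range_algHom_of_minpoly_splits ?_ b
    have h3 : minpoly k (a (t : F)) = minpoly k t := by
      rw [minpoly.algHom_eq a a.injective]
      exact minpoly.algHom_eq (separableClosure k F).val (separableClosure k F).val.injective t
    rw [h3]
    exact hL t
  obtain ⟨σ, y, rfl⟩ := Groth.Agent.Fdesc.FibreDecomp.exists_mem_range_piece k F L v key
  exact ⟨σ, y, rfl⟩

end

section

variable {k : Type u} [Field k] {X Y : Scheme.{u}} (h : Y ⟶ X) (f : X ⟶ Spec (CommRingCat.of k))
  (K : Type u) [Field K] [Algebra k K]

theorem isIrreducible_preimage_range [hg : GeometricallyIrreducible (h ≫ f)] :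
    IsIrreducible (pullback.fst f (Spec.map (CommRingCat.ofHom (algebraMap k K))) ⁻¹'
      Set.range h) := by
  rw [← K106.Basic.range_bcHom]
  have h1 : IrreducibleSpace ↥(pullback (h ≫ f)
      (Spec.map (CommRingCat.ofHom (algebraMap k K)))) :=
    pullback_of_geometrically (P := (IrreducibleSpace ·))
      hg.geometrically_irreducibleSpace K _
  rw [← Set.image_univ]
  exact (IrreducibleSpace.isIrreducible_univ _).image _
    (K106.Basic.bcHom h f _).continuous.continuousOn

/-- The preimage of the closure of the image of a geometrically irreducible scheme is irreducible. -/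
theorem isIrreducible_preimage_closure_range [hg : GeometricallyIrreducible (h ≫ f)] :
    IsIrreducible (pullback.fst f (Spec.map (CommRingCat.ofHom (algebraMap k K))) ⁻¹'
      closure (Set.range h)) := by
  rw [(pullback.fst f (Spec.map (CommRingCat.ofHom
    (algebraMap k K)))).isOpenMap.preimage_closure_eq_closure_preimage
      (pullback.fst f _).continuous]
  exact (isIrreducible_preimage_range h f K).closure

end

end K106.Pieces
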