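import Groth.Agent.Fdesc.BCChart
import Mathlib.AlgebraicGeometry.PullbackCarrier

/-!
# Affine charts of a product over an affine base
-/

set_option autoImplicit false

universe u

open TensorProduct CategoryTheory CategoryTheory.Limits AlgebraicGeometry

namespace K106.ProdChart

variable {k : Type u} [CommRing k] {X Y : Scheme.{u}} (f : X ⟶ Spec (CommRingCat.of k))
  (g : Y ⟶ Spec (CommRingCat.of k))

/-- Affine charts `Spec (A ⊗ B)` of `X ×_k Y` given by charts `Spec A` of `X` and `Spec B` of `Y`. -/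
theorem exists_chart {A B : Type u} [CommRing A] [CommRing B] [Algebra k A] [Algebra k B]
    (j : Spec (CommRingCat.of A) ⟶ X) (j' : Spec (CommRingCat.of B) ⟶ Y) [IsOpenImmersion j]
    [IsOpenImmersion j'] (hj : j ≫ f = Spec.map (CommRingCat.ofHom (algebraMap k A)))
    (hj' : j' ≫ g = Spec.map (CommRingCat.ofHom (algebraMap k B))) :
    ∃ (t : Spec (CommRingCat.of (A ⊗[k] B)) ⟶ pullback f g) (_ : IsOpenImmersion t),
      t ≫ pullback.fst f g = Spec.map (CommRingCat.ofHom
        (Algebra.TensorProduct.includeLeftRingHom : A →+* A ⊗[k] B)) ≫ j ∧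
      t ≫ pullback.snd f g = Spec.map (CommRingCat.ofHom
        (Algebra.TensorProduct.includeRight : B →ₐ[k] A ⊗[k] B).toRingHom) ≫ j' ∧
      Set.range t = pullback.fst f g ⁻¹' Set.range j ∩ pullback.snd f g ⁻¹' Set.range j' := by
  let m : pullback (Spec.map (CommRingCat.ofHom (algebraMap k A)))
      (Spec.map (CommRingCat.ofHom (algebraMap k B))) ⟶ pullback f g :=
    pullback.map _ _ f g j j' (𝟙 _) (by rw [Category.comp_id, hj]) (by rw [Category.comp_id, hj'])
  have hm : IsOpenImmersion m := inferInstance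
  refine ⟨(pullbackSpecIso k A B).inv ≫ m, inferInstance, ?_, ?_, ?_⟩
  · rw [Category.assoc, pullback.lift_fst, pullbackSpecIso_inv_fst_assoc]
  · rw [Category.assoc, pullback.lift_snd, pullbackSpecIso_inv_snd_assoc]
    rfl
  · rw [Scheme.Hom.comp_base, TopCat.coe_comp, Set.range_comp,
      Set.range_eq_univ.mpr (pullbackSpecIso k A B).inv.surjective, Set.image_univ]
    exact Scheme.Pullback.range_map _ _ _ _ _ _ _ _ _

theorem exists_chart_mem (z : ↥(pullback f g)) :
    ∃ (A B : Type u) (_ : CommRing A) (_ : CommRing B) (_ : Algebra k A) (_ : Algebra k B)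
      (j : Spec (CommRingCat.of A) ⟶ X) (j' : Spec (CommRingCat.of B) ⟶ Y) (_ : IsOpenImmersion j)
      (_ : IsOpenImmersion j') (t : Spec (CommRingCat.of (A ⊗[k] B)) ⟶ pullback f g)
      (_ : IsOpenImmersion t),
      j ≫ f = Spec.map (CommRingCat.ofHom (algebraMap k A)) ∧
      j' ≫ g = Spec.map (CommRingCat.ofHom (algebraMap k B)) ∧
      t ≫ pullback.fst f g = Spec.map (CommRingCat.ofHom
        (Algebra.TensorProduct.includeLeftRingHom : A →+* A ⊗[k] B)) ≫ j ∧
      t ≫ pullback.snd f g = Spec.map (CommRingCat.ofHom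
        (Algebra.TensorProduct.includeRight : B →ₐ[k] A ⊗[k] B).toRingHom) ≫ j' ∧
      z ∈ Set.range t := by
  obtain ⟨A, _, _, j, hjo, p, hj, hp⟩ :=
    Groth.Agent.Fdesc.BCChart.exists_affine_nhd f (pullback.fst f g z)
  obtain ⟨B, _, _, j', hjo', q, hj', hq⟩ :=
    Groth.Agent.Fdesc.BCChart.exists_affine_nhd g (pullback.snd f g z)
  obtain ⟨t, ht, h1, h2, h3⟩ := exists_chart f g j j' hj hj'
  exact ⟨A, B, _, _, _, _, j, j', hjo, hjo', t, ht, hj, hj', h1, h2,
    h3 ▸ ⟨⟨p, hp⟩, ⟨q, hq⟩⟩⟩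

end K106.ProdChart
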