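import Groth.Agent.Fdesc.IntegralFib
import Groth.Agent.FlatA.UnivHomeo

/-!
# Purely inseparable extensions of the base field

* `isUnivHomeo_specMap`, `isUnivHomeo_pullback_fst`, `isHomeomorph_pullback_fst`.
-/

set_option autoImplicit false

universe u

open CategoryTheory CategoryTheory.Limits AlgebraicGeometry

namespace K106.PurInsep

/-- The spectrum of a purely inseparable extension is universally homeomorphic to the base. -/
theorem isUnivHomeo_specMap (k K : Type u) [Field k] [Field K] [Algebra k K]
    [h : IsPurelyInseparable k K] :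
    FlatMor.IsUnivHomeo (Spec.map (CommRingCat.ofHom (algebraMap k K))) := by
  have h1 : IsIntegralHom (Spec.map (CommRingCat.ofHom (algebraMap k K))) := by
    rw [IsIntegralHom.SpecMap_iff]
    exact algebraMap_isIntegral_iff.mpr inferInstance
  have h2 : UniversallyInjective (Spec.map (CommRingCat.ofHom (algebraMap k K))) := by
    refine Groth.Agent.Fdesc.IntegralFib.universallyInjective_specMap (algebraMap k K) ?_
    convert h
    exact Algebra.algebra_ext _ _ fun r => rfl
  have h3 : Surjective (Spec.map (CommRingCat.ofHom (algebraMap k K))) :=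
    Groth.Agent.Fdesc.BaseField.surjective_of_field _
  exact Groth.Agent.FlatA.UnivHomeo.isUnivHomeo_of_universallyClosed inferInstance h2 h3

theorem isUnivHomeo_pullback_fst {k : Type u} [Field k] (K : Type u) [Field K] [Algebra k K]
    [IsPurelyInseparable k K] {X : Scheme.{u}} (f : X ⟶ Spec (CommRingCat.of k)) :
    FlatMor.IsUnivHomeo (pullback.fst f (Spec.map (CommRingCat.ofHom (algebraMap k K)))) :=
  Groth.Agent.FlatA.UnivHomeo.isUnivHomeo_of_isPullback
    (IsPullback.of_hasPullback f (Spec.map (CommRingCat.ofHom (algebraMap k K)))).flip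
    (isUnivHomeo_specMap k K)

theorem isHomeomorph_pullback_fst {k : Type u} [Field k] (K : Type u) [Field K] [Algebra k K]
    [IsPurelyInseparable k K] {X : Scheme.{u}} (f : X ⟶ Spec (CommRingCat.of k)) :
    IsHomeomorph (pullback.fst f (Spec.map (CommRingCat.ofHom (algebraMap k K)))) :=
  Groth.Agent.FlatA.UnivHomeo.isHomeomorph_of_isUnivHomeo (isUnivHomeo_pullback_fst K f)

end K106.PurInsep
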